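import Cfsg.Agent.H40.WardE.Congr

/-!
The columns from the section functions `θ l i`, constant `0, -2, -2` times the twist off the field
part.
-/

set_option autoImplicit false
set_option linter.unusedSectionVars false
set_option linter.style.haveILetI false

namespace Cfsg.Agent.H40.WardE

open Subgroup Cfsg Cfsg.Agent Cfsg.Agent.CharBasic Cfsg.Agent.CharInduce Cfsg.Agent.H84.Ward
open Cfsg.Agent.H64.Ward (dot)
open scoped ComplexConjugate Classical

universe u v w

variable {G : Type u} [Group G]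

namespace Twists

variable {P : ExtPair G} {Λ : Type w} [Fintype Λ] (S : Twists P Λ)

/-- when the field part is fixed, `Off` says that no conjugate lies in it -/
theorem off_iff (hfix : ∀ c, ∀ z ∈ S.Fo, P.actK c z = z) (k : ↥P.K) :
    S.Off k ↔ ∀ g : ↥P.K, g * k * g⁻¹ ∉ S.Fo := by
  constructor
  · rintro ⟨i, hi⟩ g hg
    refine hi (P.actK (i, 0) g) ?_
    rwa [← map_inv, ← map_mul, ← map_mul, hfix _ _ hg]
  · intro h
    refine ⟨0, fun g hg => h g ?_⟩
    rwa [show ((0 : Fin 3), (0 : Fin 2)) = 0 from rfl, actK_zero] at hg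

end Twists

namespace Cols

variable [Fintype G] {P : ExtPair G} {Λ : Type w} [Fintype Λ] {S : Twists P Λ} [Fintype ↥P.K]
  {lam : ↥P.K →* ℂˣ} {L : Type v} [Group L] [Fintype L] {D : TData G L}

/-- the constants of the section functions -/
def cst : Fin 3 → ℤ := ![0, -2, -2]

/-- the columns of the section functions -/
noncomputable def ofSection (hlamFo : ∀ z ∈ S.Fo, lam z = 1) (hlam : P.Adapted lam)
    (θ : Λ → Fin 3 → L → ℂ) (hvan : ∀ l i, VanEven (θ l i)) {x0 : ↥P.W} (hx0 : (x0 : G) = D.t)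
    {ι : ↥P.K →* L} (hι : ∀ k : ↥P.K, D.emb (1, ι k) = (k : G))
    (hodd : ∀ k : ↥P.K, Odd (orderOf (ι k)))
    (hθ : ∀ l i, ∀ k : ↥P.K, S.Off k → θ l i (ι k) = (cst i : ℂ) * (S.tw l k : ℂ))
    (hgram : ∀ l i l' j, classInner (D.F (θ l i)) (D.F (θ l' j)) =
      if l = l' then (if i = j then 4 else 2) else 0)
    (hdisj : ∀ l l' i i' χ, D.coef (hvan l i) χ ≠ 0 → D.coef (hvan l' i') χ ≠ 0 → l = l')
    (hsect : ∀ (l : Λ) (χ : IrrCharacter G), (∃ i, D.coef (hvan l i) χ ≠ 0) →
      ∀ k : ↥P.K, S.Off k → (χ : G → ℂ) ((x0 : G) * k) =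
        ((D.coef (hvan l 0) χ - D.coef (hvan l 1) χ - D.coef (hvan l 2) χ : ℤ) : ℂ) *
          (S.tw l k : ℂ)) :
    Cols S lam x0 where
  a l i χ := D.coef (hvan l i) χ
  x0_ne e := D.t_ne_one (by rw [← hx0, e]; rfl)
  deg l i := by
    have h := sum_row_apply (D.isClass_F (θ l i)) (D.coef_spec (hvan l i)) 1
    rw [show D.F (θ l i) 1 = 0 from P.F_apply_K (hvan l i) 1] at h
    simp only [(H83.charDegree_eq (Subtype.property (_ : IrrCharacter G))).1] at h
    unfold H64.Ward.dot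
    exact_mod_cast h
  gram l i l' j := sum_row_mul (D.isClass_F _) (D.coef_spec (hvan l i)) (D.coef_spec (hvan l' j))
    (by rw [hgram]; split_ifs <;> norm_num)
  disj := hdisj
  sect := hsect
  lat v l l' i := S.lcoef_F hlamFo hlam v l l' (hvan l' i) hx0 hι hodd (hθ l' i) (by
    by_cases h : l = l' <;> by_cases hv : v = 1 <;> fin_cases i <;> simp [cst, h, hv])
  orth v η hη l l' i := S.ncoef_F hlamFo hlam η hη v l l' (hvan l' i) hx0 hι hodd (hθ l' i)

end Cols

end Cfsg.Agent.H40.WardE
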