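import Cfsg.Agent.H64.Ward.Vectors

/-!
A vector of norm at most `d + 1` meeting `d` vectors of norm two with disjoint supports has no room
left at the rows of a column orthogonal to it.
-/

set_option autoImplicit false
set_option linter.unusedSectionVars false

namespace Cfsg.Agent.H40.WardE

open Finset
open Cfsg.Agent.H64.Ward (dot)

variable {ι : Type*} [Fintype ι]

theorem dot_sub_left (u v w : ι → ℤ) : dot (u - v) w = dot u w - dot v w := by
  simp only [dot, Pi.sub_apply, ← sum_sub_distrib]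
  exact sum_congr rfl fun _ _ => by ring

theorem dot_sub_right (u v w : ι → ℤ) : dot u (v - w) = dot u v - dot u w := by
  simp only [dot, Pi.sub_apply, ← sum_sub_distrib]
  exact sum_congr rfl fun _ _ => by ring

/-- a vector of norm two orthogonal to a nowhere zero vector has two entries `±1` -/
theorem norm_two_shape {z d : ι → ℤ} (hz : dot z z = 2) (x : ι) (hx : z x ≠ 0) :
    z x * z x = 1 ∧ ∃ y, y ≠ x ∧ z y * z y = 1 ∧ (∀ r, r ≠ x → r ≠ y → z r = 0) := by
  classical
  have h1 := H64.Ward.sum_sq_le z {x}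
  rw [sum_singleton] at h1
  have hpos : 0 < z x * z x := mul_self_pos.2 hx
  have hx1 : z x * z x = 1 := by
    have : z x = 1 ∨ z x = -1 := by
      rcases lt_trichotomy (z x) 0 with h | h | h
      · right; nlinarith
      · exact absurd h hx
      · left; nlinarith
    rcases this with h | h <;> rw [h] <;> norm_num
  obtain ⟨y, hy, hy1, hrest⟩ := H64.Ward.exists_extra (v := z) (s := {x})
    (by rw [sum_singleton, hx1, hz]; norm_num)
  simp only [mem_singleton] at hy hrest
  exact ⟨hx1, y, hy, by rcases hy1 with h | h <;> rw [h] <;> norm_num, hrest⟩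

/-- orthogonal vectors of norm two of degree zero have disjoint supports -/
theorem disjoint_of_norm_two {z z' d : ι → ℤ} (hd : ∀ x, 0 < d x) (hz : dot z z = 2)
    (hz' : dot z' z' = 2) (hzd : dot z d = 0) (hz'd : dot z' d = 0) (h0 : dot z z' = 0) (x : ι)
    (hx : z x ≠ 0) : z' x = 0 := by
  classical
  by_contra hx'
  obtain ⟨hx1, y, hy, hy1, hr⟩ := norm_two_shape (d := d) hz x hx
  obtain ⟨hx1', y', hy', hy1', hr'⟩ := norm_two_shape (d := d) hz' x hx'
  have hsum : ∀ v : ι → ℤ, dot z v = z x * v x + z y * v y := fun v => by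
    rw [H64.Ward.dot_eq_sum (s := {x, y}) fun r hrm => by
      simp only [mem_insert, mem_singleton, not_or] at hrm
      exact hr r hrm.1 hrm.2, sum_pair (Ne.symm hy)]
  have hsum' : ∀ v : ι → ℤ, dot z' v = z' x * v x + z' y' * v y' := fun v => by
    rw [H64.Ward.dot_eq_sum (s := {x, y'}) fun r hrm => by
      simp only [mem_insert, mem_singleton, not_or] at hrm
      exact hr' r hrm.1 hrm.2, sum_pair (Ne.symm hy')]
  rw [hsum] at h0 hzd
  rw [hsum'] at hz'd
  by_cases hyy : y' = y
  · subst hyy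
    -- proportional vectors
    have e : z' x * z y' = z x * z' y' := by
      have h1 : z' x * (z y' * d y') = z x * (z' y' * d y') := by
        linear_combination z' x * hzd - z x * hz'd
      have := hd y'
      rw [← mul_assoc, ← mul_assoc] at h1
      exact mul_right_cancel₀ this.ne' h1
    have h2 : (z x * z' x) * (z x * z' x + z y' * z' y') = z x * z x * (z' x * z' x) +
        (z x * z' y') * (z' x * z y') := by ring
    rw [h0, mul_zero, hx1, hx1', e] at h2
    nlinarith [mul_self_nonneg (z x * z' y')]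
  · rw [hr' y hy (Ne.symm hyy), mul_zero, add_zero] at h0
    exact (mul_ne_zero hx hx') h0

variable {D : Type*} [Fintype D]

/-- **Slack.** -/
theorem eq_zero_of_slack {R a : ι → ℤ} {Z : D → ι → ℤ}
    (hR : dot R R ≤ (Fintype.card D : ℤ) + 1) (hRZ : ∀ l, dot R (Z l) ≠ 0)
    (hdisj : ∀ l l' x, Z l x ≠ 0 → Z l' x ≠ 0 → l = l')
    (haZ : ∀ l x, a x ≠ 0 → Z l x = 0) (hRa : dot R a = 0) (x : ι) (hx : a x ≠ 0) : R x = 0 := by
  classical
  have hy : ∀ l, ∃ y, R y ≠ 0 ∧ Z l y ≠ 0 := by
    intro l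
    by_contra hc
    push Not at hc
    refine hRZ l (sum_eq_zero fun r _ => ?_)
    by_cases hr : R r = 0
    · rw [hr, zero_mul]
    · rw [hc r hr, mul_zero]
  choose y hyR hyZ using hy
  have hinj : Function.Injective y := fun l l' h => hdisj l l' (y l) (hyZ l) (h ▸ hyZ l')
  set Y : Finset ι := univ.image y with hY
  have hcard : (Fintype.card D : ℤ) ≤ ∑ r ∈ Y, R r * R r := by
    have h1 : ∀ r ∈ Y, (1 : ℤ) ≤ R r * R r := by
      intro r hr
      obtain ⟨l, -, rfl⟩ := mem_image.1 hr
      have := mul_self_pos.2 (hyR l)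
      omega
    have h2 := sum_le_sum h1
    rw [sum_const, hY, card_image_of_injective _ hinj, card_univ, nsmul_eq_mul, mul_one] at h2
    exact h2
  have hxY : x ∉ Y := fun h => by
    obtain ⟨l, -, hl⟩ := mem_image.1 h
    exact hyZ l (by rw [hl]; exact haZ l x hx)
  by_contra hRx
  have h1 := H64.Ward.sum_sq_le R (insert x Y)
  rw [sum_insert hxY] at h1
  have hx1 : (1 : ℤ) ≤ R x * R x := mul_self_pos.2 hRx
  have hrest : ∀ r ∉ insert x Y, R r = 0 :=
    H64.Ward.eq_zero_of_le (v := R) (by rw [sum_insert hxY]; omega)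
  have h2 : dot R a = R x * a x := by
    rw [H64.Ward.dot_eq_sum (s := insert x Y) hrest, sum_insert hxY, sum_eq_zero, add_zero]
    intro r hr
    obtain ⟨l, -, rfl⟩ := mem_image.1 hr
    by_cases ha : a (y l) = 0
    · rw [ha, mul_zero]
    · exact absurd (haZ l _ ha) (hyZ l)
  exact mul_ne_zero hRx hx (h2 ▸ hRa)

/-- the witness of a lattice for a non-trivial sign: `H v - H v'` -/
theorem witness_sgn {Hs Ht : ι → ℤ} (h1 : dot Hs Hs = 3) (h2 : dot Ht Ht = 3) (h3 : dot Hs Ht = 2) :
    dot (Hs - Ht) (Hs - Ht) = 2 := by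
  rw [H64.Ward.dot_sub_self, h1, h2, h3]; norm_num

/-- the witness of a lattice for the trivial sign: `U - H v - (a₀ - a₁ - a₂)` -/
theorem witness_one {U H a0 a1 a2 : ι → ℤ} (hU : dot U U = 7) (hH : dot H H = 3)
    (hUH : dot U H = 0) (hUa : dot U a0 = 0 ∧ dot U a1 = -3 ∧ dot U a2 = -3)
    (hHa : dot H a0 = 0 ∧ dot H a1 = 1 ∧ dot H a2 = 1)
    (ha : dot a0 a0 = 4 ∧ dot a1 a1 = 4 ∧ dot a2 a2 = 4 ∧ dot a0 a1 = 2 ∧ dot a0 a2 = 2 ∧
      dot a1 a2 = 2) :
    dot (U - H - (a0 - a1 - a2)) (U - H - (a0 - a1 - a2)) = 2 := by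
  have c1 := H64.Ward.dot_comm H U
  have c2 := H64.Ward.dot_comm a1 a0
  have c3 := H64.Ward.dot_comm a2 a0
  have c4 := H64.Ward.dot_comm a2 a1
  simp only [H64.Ward.dot_sub_self (U - H), H64.Ward.dot_sub_self U H,
    H64.Ward.dot_sub_self (a0 - a1) a2, H64.Ward.dot_sub_self a0 a1, dot_sub_left, dot_sub_right]
  omega

/-- two vectors of norm three and product two that agree on the supports of `a` and `b` vanish on
the support of `a`, when they are orthogonal to `a` but not to `b` -/
theorem eq_zero_of_star {h h' a b : ι → ℤ} (hh : dot h h = 3) (hh' : dot h h' = 2)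
    (hab : ∀ x, a x ≠ 0 → b x = 0) (heq : ∀ x, a x ≠ 0 ∨ b x ≠ 0 → h x = h' x)
    (hha : dot h a = 0) (hhb : dot h b ≠ 0) (x : ι) (hx : a x ≠ 0) : h x = 0 := by
  classical
  by_contra hhx
  obtain ⟨y, hy, hyh⟩ : ∃ y, y ≠ x ∧ h y * a y ≠ 0 := by
    by_contra hc
    push Not at hc
    rw [dot, sum_eq_single x (fun y _ h => hc y h) (by simp)] at hha
    exact mul_ne_zero hhx hx hha
  obtain ⟨z, hz⟩ : ∃ z, h z * b z ≠ 0 := by
    by_contra hc
    push Not at hc
    exact hhb (sum_eq_zero fun r _ => hc r)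
  have hzx : z ≠ x := fun e => right_ne_zero_of_mul hz (by rw [e, hab x hx])
  have hzy : z ≠ y := fun e => right_ne_zero_of_mul hz (by
    rw [e, hab y (right_ne_zero_of_mul hyh)])
  set s : Finset ι := {x, y, z} with hs
  have hxs : x ∉ ({y, z} : Finset ι) := by simp [Ne.symm hy, Ne.symm hzx]
  have hys : y ∉ ({z} : Finset ι) := by simp [Ne.symm hzy]
  have hsum : 3 ≤ ∑ r ∈ s, h r * h r := by
    have h1 := mul_self_pos.2 hhx
    have h2 := mul_self_pos.2 (left_ne_zero_of_mul hyh)
    have h3 := mul_self_pos.2 (left_ne_zero_of_mul hz)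
    rw [hs, sum_insert hxs, sum_insert hys, sum_singleton]
    omega
  have h0 := H64.Ward.eq_zero_of_le (v := h) (s := s) (by omega)
  have hle := H64.Ward.sum_sq_le h s
  rw [H64.Ward.dot_eq_sum h0, hs, sum_insert hxs, sum_insert hys, sum_singleton,
    ← heq x (Or.inl hx), ← heq y (Or.inl (right_ne_zero_of_mul hyh)),
    ← heq z (Or.inr (right_ne_zero_of_mul hz))] at hh'
  rw [hs, sum_insert hxs, sum_insert hys, sum_singleton] at hsum
  omega

end Cfsg.Agent.H40.WardE
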