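import Cfsg.Agent.H40.WardE.ExtFunctional
import Cfsg.Agent.H84.Ward.TSection

/-!
The coefficient rows of `H v μ lam` and `U μ lam` and their products with the section rows.
-/

set_option autoImplicit false
set_option linter.unusedSectionVars false
set_option linter.style.haveILetI false

namespace Cfsg.Agent.H40.WardE

open Subgroup Cfsg Cfsg.Agent Cfsg.Agent.CharBasic Cfsg.Agent.CharInduce Cfsg.Agent.H84.Ward
open scoped ComplexConjugate

universe u v

variable {G : Type u} [Group G]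

open scoped Classical in
/-- product of two integral rows -/
theorem sum_row_mul [Fintype G] {α β : G → ℂ} (hα : IsClassFunction G α)
    {a b : IrrCharacter G → ℤ} (ha : ∀ χ : IrrCharacter G, classInner α (χ : G → ℂ) = a χ)
    (hb : ∀ χ : IrrCharacter G, classInner β (χ : G → ℂ) = b χ) {m : ℤ}
    (hm : classInner α β = m) : ∑ χ, a χ * b χ = m := by
  have h1 := classInner_eq_sum (ψ := β) hα
  rw [hm] at h1
  simp only [ha, hb, map_intCast] at h1
  have h2 : ((∑ χ : IrrCharacter G, a χ * b χ : ℤ) : ℂ) = (m : ℂ) := by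
    push_cast
    exact h1.symm
  exact_mod_cast h2

open scoped Classical in
/-- evaluation of an integral row -/
theorem sum_row_apply [Fintype G] {α : G → ℂ} (hα : IsClassFunction G α)
    {a : IrrCharacter G → ℤ} (ha : ∀ χ : IrrCharacter G, classInner α (χ : G → ℂ) = a χ) (g : G) :
    ∑ χ : IrrCharacter G, (a χ : ℂ) * (χ : G → ℂ) g = α g := by
  have h0 := congrFun (classFunction_expansion hα) g
  rw [Finset.sum_apply] at h0
  rw [h0]
  exact Finset.sum_congr rfl fun χ _ => by rw [Pi.smul_apply, smul_eq_mul, ha]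

namespace ExtPair

variable (P : ExtPair G)

/-- the embedding of `K` in the second factor -/
theorem exists_iota [Finite G] {L : Type v} [Group L] (D : TData G L) {x0 : ↥P.W}
    (hx0 : (x0 : G) = D.t) :
    ∃ ι : ↥P.K →* L, (∀ k : ↥P.K, D.emb (1, ι k) = (k : G)) ∧
      ∀ k : ↥P.K, Odd (orderOf (ι k)) ∧ (ι k = 1 ↔ k = 1) := by
  have hmem : ∀ k : ↥P.K, (k : G) ∈ centralizer ({D.t} : Set G) := fun k =>
    mem_centralizer_singleton_iff.2 (hx0 ▸ (P.comm x0 x0.2 k k.2).symm.eq)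
  choose c hc using fun k => D.exists_emb (hmem k)
  have hodd : ∀ k : ↥P.K, Odd (orderOf (c k)) := fun k => by
    rw [← orderOf_injective D.emb D.emb_injective, hc]
    exact P.odd.of_dvd_nat (Subgroup.orderOf_dvd_natCard _ k.2)
  have hfst : ∀ k : ↥P.K, (c k).1 = 1 := fun k => by
    rcases z2_cases (c k).1 with h | h
    · exact h
    · have h1 := congrArg Prod.fst (pow_orderOf_eq_one (c k))
      rw [Prod.pow_fst, h, tu_pow_odd (hodd k)] at h1
      exact absurd h1 tu_ne_one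
  refine ⟨{ toFun := fun k => (c k).2
            map_one' := ?_
            map_mul' := fun a b => ?_ }, fun k => ?_, fun k => ⟨?_, ?_, ?_⟩⟩
  · have h : c 1 = 1 := D.emb_injective (by rw [hc, map_one]; rfl)
    rw [h]; rfl
  · have h : c (a * b) = c a * c b := D.emb_injective (by rw [map_mul, hc, hc, hc]; rfl)
    rw [h]; rfl
  · show D.emb (1, (c k).2) = (k : G)
    rw [← hc k, ← hfst k]
  · exact (hodd k).of_dvd_nat (orderOf_map_dvd (MonoidHom.snd _ L) (c k))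
  · intro h
    have h1 : c k = 1 := Prod.ext (hfst k) h
    exact Subtype.ext (by rw [← hc k, h1, map_one]; rfl)
  · rintro rfl
    have h : c 1 = 1 := D.emb_injective (by rw [hc, map_one]; rfl)
    show (c 1).2 = 1
    rw [h]; rfl

variable [Fintype G]

/-- the multiplicity of `χ` in `H v μ lam` -/
theorem exists_hcoef {v : ↥P.W} (hv : v ≠ 1) (μ lam : ↥P.K →* ℂˣ) (χ : IrrCharacter G) :
    ∃ n : ℤ, classInner (P.H v μ lam) (χ : G → ℂ) = n :=
  CharInduce.IsGen.exists_int_coeff (P.H_isGen hv μ lam) (IsIrr.isCharacter χ.2)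

/-- the multiplicity of `χ` in `U μ lam` -/
noncomputable def ucoef (μ lam : ↥P.K →* ℂˣ) (χ : IrrCharacter G) : ℤ :=
  (CharInduce.IsGen.exists_int_coeff (P.U_isGen μ lam) (IsIrr.isCharacter χ.2)).choose

theorem ucoef_spec (μ lam : ↥P.K →* ℂˣ) (χ : IrrCharacter G) :
    classInner (P.U μ lam) (χ : G → ℂ) = P.ucoef μ lam χ :=
  (CharInduce.IsGen.exists_int_coeff (P.U_isGen μ lam) (IsIrr.isCharacter χ.2)).choose_spec

/-- the multiplicity of `χ` in `H v μ lam` -/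
noncomputable def hcoef {v : ↥P.W} (hv : v ≠ 1) (μ lam : ↥P.K →* ℂˣ) (χ : IrrCharacter G) : ℤ :=
  (P.exists_hcoef hv μ lam χ).choose

theorem hcoef_spec {v : ↥P.W} (hv : v ≠ 1) (μ lam : ↥P.K →* ℂˣ) (χ : IrrCharacter G) :
    classInner (P.H v μ lam) (χ : G → ℂ) = P.hcoef hv μ lam χ :=
  (P.exists_hcoef hv μ lam χ).choose_spec

open scoped Classical in
theorem hcoef_deg {v : ↥P.W} (hv : v ≠ 1) (μ lam : ↥P.K →* ℂˣ) :
    ∑ χ : IrrCharacter G, P.hcoef hv μ lam χ * (charDegree (χ : G → ℂ) : ℤ) = 0 := by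
  have h := sum_row_apply (P.ind_isClass _ μ lam) (P.hcoef_spec hv μ lam) 1
  rw [P.ind_one] at h
  simp only [(H83.charDegree_eq (Subtype.property (_ : IrrCharacter G))).1] at h
  exact_mod_cast h

open scoped Classical in
theorem ucoef_deg (μ lam : ↥P.K →* ℂˣ) :
    ∑ χ : IrrCharacter G, P.ucoef μ lam χ * (charDegree (χ : G → ℂ) : ℤ) = 0 := by
  have h := sum_row_apply (P.ind_isClass _ μ lam) (P.ucoef_spec μ lam) 1
  rw [P.ind_one] at h
  simp only [(H83.charDegree_eq (Subtype.property (_ : IrrCharacter G))).1] at h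
  exact_mod_cast h

open scoped Classical in
theorem hcoef_val {v : ↥P.W} (hv : v ≠ 1) (μ lam : ↥P.K →* ℂˣ) {t : G} (ht : t * t = 1)
    (val : IrrCharacter G → ℤ) (hval : ∀ χ : IrrCharacter G, (χ : G → ℂ) t = val χ) :
    ∑ χ, P.hcoef hv μ lam χ * val χ = 0 := by
  have h := sum_row_apply (P.ind_isClass _ μ lam) (P.hcoef_spec hv μ lam) t
  rw [P.ind_two _ μ lam (g := t) (n := 1) (by rw [pow_one, pow_two]; exact ht)] at h
  simp only [hval] at h
  exact_mod_cast h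

open scoped Classical in
theorem ucoef_val (μ lam : ↥P.K →* ℂˣ) {t : G} (ht : t * t = 1)
    (val : IrrCharacter G → ℤ) (hval : ∀ χ : IrrCharacter G, (χ : G → ℂ) t = val χ) :
    ∑ χ, P.ucoef μ lam χ * val χ = 0 := by
  have h := sum_row_apply (P.ind_isClass _ μ lam) (P.ucoef_spec μ lam) t
  rw [P.ind_two _ μ lam (g := t) (n := 1) (by rw [pow_one, pow_two]; exact ht)] at h
  simp only [hval] at h
  exact_mod_cast h

variable {lam : ↥P.K →* ℂˣ} (hlam : P.Adapted lam) {μ : ↥P.K →* ℂˣ} (hμ : P.Fixed μ)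
  {v : ↥P.W} (hv : v ≠ 1)

open scoped Classical in
include hlam hμ in
theorem hcoef_gram {v' : ↥P.W} (hv' : v' ≠ 1) :
    ∑ χ, P.hcoef hv μ lam χ * P.hcoef hv' μ lam χ = if v = v' then 3 else 2 :=
  sum_row_mul (P.ind_isClass _ μ lam) (P.hcoef_spec hv μ lam) (P.hcoef_spec hv' μ lam)
    (by rw [show P.ind (P.sgn v) μ lam = P.H v μ lam from rfl, P.classInner_H_H hlam hμ hv hv']
        split_ifs <;> simp)

open scoped Classical in
include hlam hμ in
theorem ucoef_gram : ∑ χ, P.ucoef μ lam χ * P.ucoef μ lam χ = 7 :=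
  sum_row_mul (P.ind_isClass _ μ lam) (P.ucoef_spec μ lam) (P.ucoef_spec μ lam)
    (by rw [show P.ind (fun _ => 1) μ lam = P.U μ lam from rfl, P.classInner_U_U hlam hμ]; simp)

open scoped Classical in
include hlam hμ in
theorem ucoef_orth : ∑ χ, P.ucoef μ lam χ * P.hcoef hv μ lam χ = 0 :=
  sum_row_mul (P.ind_isClass _ μ lam) (P.ucoef_spec μ lam) (P.hcoef_spec hv μ lam)
    (by rw [show P.ind (fun _ => 1) μ lam = P.U μ lam from rfl, P.classInner_U_H hlam hμ hv]; simp)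

open scoped Classical in
include hlam in
theorem hcoef_functional {t : G} (ht : t * t = 1) (ht1 : t ≠ 1)
    (hconj : ∀ r : G, r * r = 1 → r ≠ 1 → IsConj t r) (val : IrrCharacter G → ℤ)
    (hval : ∀ χ : IrrCharacter G, (χ : G → ℂ) t = val χ) :
    ∑ χ : IrrCharacter G, (P.hcoef hv μ lam χ : ℚ) * (val χ : ℚ) ^ 2 /
      (charDegree (χ : G → ℂ) : ℚ) = 0 := by
  have h := P.functional_H hlam ht ht1 hconj μ hv
  simp only [hval, fun χ : IrrCharacter G => (H83.charDegree_eq χ.2).1,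
    P.hcoef_spec hv μ lam] at h
  have h2 : ((∑ χ : IrrCharacter G, (P.hcoef hv μ lam χ : ℚ) * (val χ : ℚ) ^ 2 /
      (charDegree (χ : G → ℂ) : ℚ) : ℚ) : ℂ) = ((0 : ℚ) : ℂ) := by
    push_cast
    exact h
  exact_mod_cast h2

open scoped Classical in
include hlam in
theorem ucoef_functional {t : G} (ht : t * t = 1) (ht1 : t ≠ 1)
    (hconj : ∀ r : G, r * r = 1 → r ≠ 1 → IsConj t r) (K0 : Subgroup ↥P.K)
    (hK0 : ∀ l : ↥P.K, P.Inv l ↔ l ∈ K0) (hμ0 : ∀ l ∈ K0, μ l = 1)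
    (hlam0 : ∃ l ∈ K0, lam l ≠ 1) (val : IrrCharacter G → ℤ)
    (hval : ∀ χ : IrrCharacter G, (χ : G → ℂ) t = val χ) :
    ∑ χ : IrrCharacter G, (P.ucoef μ lam χ : ℚ) * (val χ : ℚ) ^ 2 /
      (charDegree (χ : G → ℂ) : ℚ) =
      4 * (Nat.card ↥K0 : ℚ) ^ 2 * (Nat.card (centralizer ({t} : Set G)) : ℚ) ^ 2 /
        ((Nat.card ↥P.K : ℚ) * Nat.card G) := by
  have h := P.functional_U hlam ht ht1 hconj K0 hK0 hμ0 hlam0
  simp only [hval, fun χ : IrrCharacter G => (H83.charDegree_eq χ.2).1,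
    P.ucoef_spec μ lam] at h
  have h2 : ((∑ χ : IrrCharacter G, (P.ucoef μ lam χ : ℚ) * (val χ : ℚ) ^ 2 /
      (charDegree (χ : G → ℂ) : ℚ) : ℚ) : ℂ) = ((4 * (Nat.card ↥K0 : ℚ) ^ 2 *
        (Nat.card (centralizer ({t} : Set G)) : ℚ) ^ 2 /
        ((Nat.card ↥P.K : ℚ) * Nat.card G) : ℚ) : ℂ) := by
    push_cast
    exact h
  exact_mod_cast h2

variable {L : Type v} [Group L] {D : TData G L}

/-- `F θ` vanishes on `K` -/
theorem F_apply_K {θ : L → ℂ} (h : VanEven θ) (k : ↥P.K) : D.F θ (k : G) = 0 := by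
  refine D.F_eq_zero h fun x a ha he => tu_ne_one ?_
  have hN : Odd (Nat.card ↥P.K * orderOf a) := P.odd.mul ha
  have hk : (k : G) ^ (Nat.card ↥P.K * orderOf a) = 1 := by
    rw [pow_mul, P.pow_card_K k.2, one_pow]
  have h1 := congrArg (· ^ (Nat.card ↥P.K * orderOf a)) he
  simp only [D.emb_pow hN (dvd_mul_left _ _)] at h1
  rw [show x⁻¹ * (k : G) * x = x⁻¹ * k * (x⁻¹)⁻¹ by simp, conj_pow, hk, mul_one,
    mul_inv_cancel] at h1
  exact absurd h1.symm D.t_ne_one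

omit [Fintype G] in
theorem emb_section {x0 : ↥P.W} (hx0 : (x0 : G) = D.t) {ι : ↥P.K →* L}
    (hι : ∀ k : ↥P.K, D.emb (1, ι k) = (k : G)) (k : ↥P.K) :
    D.emb (tu, ι k) = (x0 : G) * k := by
  rw [← hι k, hx0, ← D.emb_t, ← map_mul, Prod.mk_mul_mk, mul_one, one_mul]

variable [Fintype L]

include hlam hμ hv in
/-- `H v` against `F θ`, `θ = c μ` off the common kernel -/
theorem classInner_H_F_const {θ : L → ℂ} (h : VanEven θ) {x0 : ↥P.W}
    (hx0 : (x0 : G) = D.t) {ι : ↥P.K →* L} (hι : ∀ k : ↥P.K, D.emb (1, ι k) = (k : G))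
    (hodd : ∀ k : ↥P.K, Odd (orderOf (ι k))) {c : ℂ}
    (hθ : ∀ k : ↥P.K, (∃ i : Fin 3, lam (P.actK (i, 0) k) ≠ 1) → θ (ι k) = c * (μ k : ℂ)) :
    classInner (P.H v μ lam) (D.F θ) = -conj c / 2 := by
  have hx1 : x0 ≠ 1 := fun e => D.t_ne_one (by rw [← hx0, e]; rfl)
  rw [P.classInner_H_const hlam hv hμ (D.isClass_F θ) hx1 (fun k _ => P.F_apply_K h k) (c := 2 * c)
    (fun k hk => by rw [← P.emb_section hx0 hι, D.F_emb h (hodd k), hθ k hk, mul_assoc])]
  rw [map_mul, map_ofNat]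
  ring

include hlam hμ in
/-- `U` against `F θ`, `θ = c μ` off the common kernel -/
theorem classInner_U_F_const {θ : L → ℂ} (h : VanEven θ) {x0 : ↥P.W}
    (hx0 : (x0 : G) = D.t) {ι : ↥P.K →* L} (hι : ∀ k : ↥P.K, D.emb (1, ι k) = (k : G))
    (hodd : ∀ k : ↥P.K, Odd (orderOf (ι k))) {c : ℂ}
    (hθ : ∀ k : ↥P.K, (∃ i : Fin 3, lam (P.actK (i, 0) k) ≠ 1) → θ (ι k) = c * (μ k : ℂ)) :
    classInner (P.U μ lam) (D.F θ) = 3 * conj c / 2 := by
  have hx1 : x0 ≠ 1 := fun e => D.t_ne_one (by rw [← hx0, e]; rfl)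
  rw [P.classInner_U_const hlam hμ (D.isClass_F θ) hx1 (fun k _ => P.F_apply_K h k) (c := 2 * c)
    (fun k hk => by rw [← P.emb_section hx0 hι, D.F_emb h (hodd k), hθ k hk, mul_assoc])]
  rw [map_mul, map_ofNat]
  ring

open scoped Classical in
/-- product of the rows of `H v` and `F θ` -/
theorem hcoef_F {θ : L → ℂ} (h : VanEven θ) {m : ℤ}
    (hm : classInner (P.H v μ lam) (D.F θ) = m) :
    ∑ χ, P.hcoef hv μ lam χ * D.coef h χ = m :=
  sum_row_mul (P.ind_isClass _ μ lam) (P.hcoef_spec hv μ lam) (D.coef_spec h) hm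

open scoped Classical in
/-- product of the rows of `U` and `F θ` -/
theorem ucoef_F {θ : L → ℂ} (h : VanEven θ) {m : ℤ}
    (hm : classInner (P.U μ lam) (D.F θ) = m) :
    ∑ χ, P.ucoef μ lam χ * D.coef h χ = m :=
  sum_row_mul (P.ind_isClass _ μ lam) (P.ucoef_spec μ lam) (D.coef_spec h) hm

end ExtPair

end Cfsg.Agent.H40.WardE
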