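import Cfsg.Agent.H40.WardE.DiffRows

/-!
Columns of the twisted lattices at the section: the lattices on their rows, and the vanishing of the
differences there.
-/

set_option autoImplicit false
set_option linter.unusedSectionVars false
set_option linter.style.haveILetI false

namespace Cfsg.Agent.H40.WardE

open Subgroup Cfsg Cfsg.Agent Cfsg.Agent.CharBasic Cfsg.Agent.CharInduce
open Cfsg.Agent.H64.Ward (dot)
open scoped ComplexConjugate Classical

universe u w

variable {G : Type u} [Group G]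

/-- the columns `a l i` of the twists, their rows on the section and their products -/
structure Cols [Fintype G] {P : ExtPair G} {Λ : Type w} [Fintype Λ] (S : Twists P Λ)
    [Fintype ↥P.K] (lam : ↥P.K →* ℂˣ) (x0 : ↥P.W) where
  /-- the columns -/
  a : Λ → Fin 3 → IrrCharacter G → ℤ
  x0_ne : x0 ≠ 1
  deg : ∀ l i, dot (a l i) (fun χ => (charDegree (χ : G → ℂ) : ℤ)) = 0
  gram : ∀ l i l' j, dot (a l i) (a l' j) = if l = l' then (if i = j then 4 else 2) else 0
  disj : ∀ l l' i i' χ, a l i χ ≠ 0 → a l' i' χ ≠ 0 → l = l'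
  sect : ∀ l χ, (∃ i, a l i χ ≠ 0) → ∀ k : ↥P.K, S.Off k →
    (χ : G → ℂ) ((x0 : G) * k) = ((a l 0 χ - a l 1 χ - a l 2 χ : ℤ) : ℂ) * (S.tw l k : ℂ)
  lat : ∀ v l l' i, dot (P.lcoef v (S.tw l) lam) (a l' i) =
    if l = l' ∧ i ≠ 0 then (if v = 1 then -3 else 1) else 0
  orth : ∀ v η, S.M η ≠ ⊤ → ∀ l l' i, dot (S.ncoef v η lam l) (a l' i) = 0

namespace Cols

variable [Fintype G] {P : ExtPair G} {Λ : Type w} [Fintype Λ] {S : Twists P Λ} [Fintype ↥P.K]
  {lam : ↥P.K →* ℂˣ} {x0 : ↥P.W} (C : Cols S lam x0)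
  (hlamFo : ∀ z ∈ S.Fo, lam z = 1) (hlam : P.Adapted lam)
include hlamFo hlam

/-- the lattices on a row of the twist `l'` -/
theorem lcoef_sub (v v' : ↥P.W) (l l' : Λ) {χ : IrrCharacter G} (hχ : ∃ i, C.a l' i χ ≠ 0) :
    P.lcoef v (S.tw l) lam χ - P.lcoef v' (S.tw l) lam χ =
      if l = l' then (C.a l' 0 χ - C.a l' 1 χ - C.a l' 2 χ) *
        ((if v = 1 then 1 else 0) - if v' = 1 then 1 else 0) else 0 :=
  S.lcoef_sub_apply hlamFo hlam v v' l l' C.x0_ne (C.sect l' χ hχ)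

/-- the three `H` agree on the rows of the columns -/
theorem lcoef_H_eq {v v' : ↥P.W} (hv : v ≠ 1) (hv' : v' ≠ 1) (l l' : Λ) {χ : IrrCharacter G}
    (hχ : ∃ i, C.a l' i χ ≠ 0) :
    P.lcoef v (S.tw l) lam χ = P.lcoef v' (S.tw l) lam χ := by
  have h := C.lcoef_sub hlamFo hlam v v' l l' hχ
  simp only [hv, hv', if_false, sub_self, mul_zero, ite_self] at h
  omega

omit C in
theorem lcoef_gram {v v' : ↥P.W} (hv : v ≠ 1) (hv' : v' ≠ 1) (l : Λ) :
    dot (P.lcoef v (S.tw l) lam) (P.lcoef v' (S.tw l) lam) = if v = v' then 3 else 2 := by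
  rw [P.lcoef_eq_hcoef hv, P.lcoef_eq_hcoef hv']
  exact P.hcoef_gram hlam (S.tw_isFixed l) hv hv'

/-- a lattice vanishes on the rows of another twist -/
theorem lcoef_eq_zero_cross (v : ↥P.W) {l l' : Λ} (hll : l ≠ l') {χ : IrrCharacter G}
    (hχ : ∃ i, C.a l' i χ ≠ 0) : P.lcoef v (S.tw l) lam χ = 0 := by
  have hH : ∀ w : ↥P.W, w ≠ 1 → P.lcoef w (S.tw l) lam χ = 0 := by
    intro w hw
    obtain ⟨w', hw', hne⟩ : ∃ w' : ↥P.W, w' ≠ 1 ∧ w' ≠ w := by
      haveI : Fintype ↥P.W := Fintype.ofFinite _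
      haveI := P.klein
      by_contra hc
      push Not at hc
      have h1 := Finset.card_le_card (show (Finset.univ : Finset ↥P.W) ⊆ {1, w} from fun z _ => by
        by_cases hz : z = 1
        · simp [hz]
        · simp [hc z hz])
      have h2 := Finset.card_le_two (a := (1 : ↥P.W)) (b := w)
      rw [Finset.card_univ, ← Nat.card_eq_fintype_card, IsKleinFour.card_four] at h1
      omega
    obtain ⟨i, hi⟩ := hχ
    refine eq_zero_of_star (h' := P.lcoef w' (S.tw l) lam) (b := C.a l 1) ?_ ?_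
      (fun x hx => ?_) (fun x hx => ?_) ?_ ?_ χ hi
    · rw [lcoef_gram hlamFo hlam hw hw, if_pos rfl]
    · rw [lcoef_gram hlamFo hlam hw hw', if_neg (Ne.symm hne)]
    · by_contra hb
      exact hll (C.disj _ _ _ _ _ hb hx)
    · rcases hx with hx | hx <;> exact C.lcoef_H_eq hlamFo hlam hw hw' l _ ⟨_, hx⟩
    · rw [C.lat, if_neg fun h => hll h.1]
    · rw [C.lat, if_pos ⟨rfl, by decide⟩, if_neg hw]
      norm_num
  by_cases hv : v = 1
  · obtain ⟨w, hw⟩ := P.exists_ne_W hlam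
    have h := C.lcoef_sub hlamFo hlam v w l l' hχ
    rw [if_neg hll, hH w hw] at h
    omega
  · exact hH v hv

variable (η : ↥S.T0 →* ℂˣ) (hη : S.M η ≠ ⊤)
include hη

/-- **the differences vanish on the rows of the columns** -/
theorem ncoef_zero (v : ↥P.W) (l : Λ) {l₀ : Λ} {i₀ : Fin 3} {χ : IrrCharacter G}
    (hχ : C.a l₀ i₀ χ ≠ 0) : S.ncoef v η lam l χ = 0 := by
  haveI : Fintype ↥P.W := Fintype.ofFinite _
  haveI := P.klein
  have hcard : Fintype.card ↥P.W = 4 := by rw [← Nat.card_eq_fintype_card, IsKleinFour.card_four]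
  obtain ⟨w, hw, hne⟩ : ∃ w : ↥P.W, w ≠ 1 ∧ w ≠ v := by
    by_contra hc
    push Not at hc
    have h1 := Finset.card_le_card (show (Finset.univ : Finset ↥P.W) ⊆ {1, v} from fun z _ => by
      by_cases hz : z = 1
      · simp [hz]
      · simp [hc z hz])
    have h2 := Finset.card_le_two (a := (1 : ↥P.W)) (b := v)
    rw [Finset.card_univ, hcard] at h1
    omega
  have hR : ∀ l', S.Rel η l l' →
      dot (S.ncoef v η lam l) (P.lcoef v (S.tw l') lam) -
        dot (S.ncoef v η lam l) (P.lcoef w (S.tw l') lam) = 1 := fun l' h => by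
    rw [S.ncoef_lcoef hlamFo hlam η hη, S.ncoef_lcoef hlamFo hlam η hη, if_pos ⟨rfl, h⟩,
      if_neg fun e => hne e.1.symm]
    norm_num
  by_cases hv : v = 1
  · subst hv
    refine S.ncoef_eq_zero hlamFo hlam η hη 1 l (fun l' => P.lcoef 1 (S.tw l') lam -
      P.lcoef w (S.tw l') lam - (C.a l' 0 - C.a l' 1 - C.a l' 2)) (fun l' => ?_) (fun l' => ?_)
      (fun l₁ l₂ h => ?_) (fun l' h => ?_) (C.a l₀ i₀) (fun l' x hx => ?_) (C.orth _ η hη _ _ _) hχ
    · refine witness_one ?_ ?_ ?_ ?_ ?_ ?_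
      · rw [P.lcoef_eq_ucoef]; exact P.ucoef_gram hlam (S.tw_isFixed l')
      · rw [lcoef_gram hlamFo hlam hw hw, if_pos rfl]
      · rw [P.lcoef_eq_ucoef, P.lcoef_eq_hcoef hw]
        exact P.ucoef_orth hlam (S.tw_isFixed l') hw
      · simp [C.lat]
      · simp [C.lat, hw]
      · simp [C.gram]
    · simp only [dot_sub_left, P.lcoef_deg, C.deg, sub_self]
    · have e1 := fun a b c i => (H64.Ward.dot_comm (C.a a i) (P.lcoef b (S.tw c) lam)).trans
        (C.lat b c a i)
      simp only [dot_sub_left, dot_sub_right, S.lcoef_cross hlamFo hlam _ _ h, C.gram, C.lat, e1, h,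
        h.symm, false_and, if_false, sub_self]
    · simp only [dot_sub_right, hR l' h, C.orth _ η hη, sub_zero]
      norm_num
    · have h1 := C.lcoef_sub hlamFo hlam 1 w l' l₀ ⟨_, hx⟩
      rw [if_pos rfl, if_neg hw] at h1
      simp only [Pi.sub_apply, h1]
      split_ifs with hl
      · subst hl; ring
      · have h0 : ∀ i, C.a l' i x = 0 := fun i => by
          by_contra hi
          exact hl (C.disj _ _ _ _ _ hi hx)
        simp [h0]
  · refine S.ncoef_eq_zero hlamFo hlam η hη v l (fun l' => P.lcoef v (S.tw l') lam -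
      P.lcoef w (S.tw l') lam) (fun l' => ?_) (fun l' => ?_) (fun l₁ l₂ h => ?_) (fun l' h => ?_)
      (C.a l₀ i₀) (fun l' x hx => ?_) (C.orth _ η hη _ _ _) hχ
    · refine witness_sgn ?_ ?_ ?_
      · rw [lcoef_gram hlamFo hlam hv hv, if_pos rfl]
      · rw [lcoef_gram hlamFo hlam hw hw, if_pos rfl]
      · rw [lcoef_gram hlamFo hlam hv hw, if_neg (Ne.symm hne)]
    · simp only [dot_sub_left, P.lcoef_deg, sub_self]
    · simp only [dot_sub_left, dot_sub_right, S.lcoef_cross hlamFo hlam _ _ h, sub_self]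
    · rw [dot_sub_right, hR l' h]
      norm_num
    · rw [Pi.sub_apply, C.lcoef_H_eq hlamFo hlam hv hw l' l₀ ⟨_, hx⟩, sub_self]

end Cols

end Cfsg.Agent.H40.WardE
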