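import Cfsg.Agent.H40.WardE.Sums
import Cfsg.Agent.H40.WardE.Cols
import Cfsg.Agent.CharInduce.Monomial

/-!
Values at the elements of `W` modulo `|T₀|`.
-/

set_option autoImplicit false
set_option linter.unusedSectionVars false
set_option linter.style.haveILetI false

namespace Cfsg.Agent.H40.WardE

open Subgroup Cfsg Cfsg.Agent Cfsg.Agent.CharBasic Cfsg.Agent.CharInduce
open scoped ComplexConjugate Classical

universe u w

variable {G : Type u} [Group G]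

namespace Twists

variable {P : ExtPair G} {Λ : Type w} [Fintype Λ] (S : Twists P Λ)

/-- a fixed character of `T₀`, trivially extended -/
noncomputable def extTop (η : ↥S.T0 →* ℂˣ) (h : S.M η = ⊤) : ↥P.K →* ℂˣ where
  toFun k := S.ext η ⟨k, h.ge (Subgroup.mem_top k)⟩
  map_one' := map_one _
  map_mul' _ _ := map_mul (S.ext η) ⟨_, _⟩ ⟨_, _⟩

theorem extTop_T0 (η : ↥S.T0 →* ℂˣ) (h : S.M η = ⊤) (t : ↥S.T0) :
    S.extTop η h t = η t := S.ext_T0 η t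

theorem extTop_Fo (η : ↥S.T0 →* ℂˣ) (h : S.M η = ⊤) : ∀ z ∈ S.Fo, S.extTop η h z = 1 :=
  fun z hz => (S.ext_apply η (one_mem _) hz (one_mul z).symm).trans (map_one η)

theorem res0_extTop (η : ↥S.T0 →* ℂˣ) (h : S.M η = ⊤) : S.res0 (S.extTop η h) = η :=
  MonoidHom.ext fun t => S.extTop_T0 η h t

theorem extTop_adapted [Finite G] {η : ↥S.T0 →* ℂˣ} (hη : η ≠ 1) (h : S.M η = ⊤)
    (hfix : ∀ c, ∀ z ∈ S.Fo, P.actK c z = z) : P.Adapted (S.extTop η h) where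
  cent k hk := S.cent_of_ext_ne η (lam := 1) (fun _ _ => rfl) (m := ⟨k, h.ge (Subgroup.mem_top k)⟩) hk
  inv k := by
    obtain ⟨t, ht, z, hz, rfl⟩ := S.exists_eq k
    have hu : (⟨P.u * ((t * z : ↥P.K) : G) * P.u⁻¹, P.u_K _ (t * z).2⟩ : ↥P.K) = t⁻¹ * z := by
      have e1 : P.actK (0, 1) t = t⁻¹ := by
        apply Subtype.ext
        simp only [ExtPair.actK_coe, ExtPair.rep, Fin.val_zero, pow_zero, one_mul, Fin.val_one,
          pow_one, InvMemClass.coe_inv]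
        exact S.u_inv t ht
      calc _ = P.actK (0, 1) (t * z) := Subtype.ext (by simp [ExtPair.rep])
        _ = _ := by rw [map_mul, e1, hfix (0, 1) z hz]
    rw [hu, map_mul, map_mul, S.extTop_Fo η h z hz, mul_one, mul_one, map_inv]
  move := by
    by_contra hc
    push Not at hc
    refine S.move_ne hη (c := (1, 0)) (by decide) 1 (MonoidHom.ext fun t => ?_)
    rw [← S.extTop_T0 η h t, MonoidHom.comp_apply, ← S.extTop_T0 η h (S.move (1, 0) 1 t)]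
    refine Eq.trans (congrArg _ (Subtype.ext ?_)) (hc t)
    simp [S.move_coe, ExtPair.rep]

variable [Fintype G] [Fintype ↥P.W] [Fintype ↥S.T0]

/-- **congruence from the lattices of all non-trivial characters** -/
theorem congr_of_dsum (χ : IrrCharacter G) (c : ↥P.W → ℤ)
    (hc : ∀ v η, η ≠ 1 → S.dsum v η (χ : G → ℂ) = (c v : ℂ)) (x : ↥P.W) :
    ∃ n : ℤ, (χ : G → ℂ) (x : G) =
      ∑ v : ↥P.W, (P.sg v x : ℂ) * (c v : ℂ) + (Nat.card ↥S.T0 : ℂ) * (n : ℂ) := by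
  haveI := P.klein
  letI : CommGroup ↥S.T0 :=
    { (inferInstance : Group ↥S.T0) with
      mul_comm := fun a b => Subtype.ext (S.comm a a.2 b b.2) }
  haveI : Finite (↥S.T0 →* ℂˣ) := Nat.finite_of_card_ne_zero (by
    rw [CommGroup.card_monoidHom_of_hasEnoughRootsOfUnity ↥S.T0 ℂ]; exact Nat.card_pos.ne')
  haveI : Fintype (↥S.T0 →* ℂˣ) := Fintype.ofFinite _
  have hcard : (Fintype.card (↥S.T0 →* ℂˣ) : ℂ) = (Nat.card ↥S.T0 : ℂ) := by
    rw [← Nat.card_eq_fintype_card, CommGroup.card_monoidHom_of_hasEnoughRootsOfUnity ↥S.T0 ℂ]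
  have horth : ∀ t : ↥S.T0, ∑ η : ↥S.T0 →* ℂˣ, (η t : ℂ) =
      if t = 1 then (Nat.card ↥S.T0 : ℂ) else 0 := by
    intro t
    split_ifs with ht
    · simp [ht, hcard]
    · obtain ⟨φ, hφ⟩ := CommGroup.exists_apply_ne_one_of_hasEnoughRootsOfUnity ↥S.T0 ℂ ht
      have h3 := Fintype.sum_equiv (Equiv.mulLeft φ) (fun η => ((φ * η) t : ℂ))
        (fun η => (η t : ℂ)) (fun η => rfl)
      simp only [MonoidHom.mul_apply, Units.val_mul, ← Finset.mul_sum] at h3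
      have : ((φ t : ℂ) - 1) * ∑ η : ↥S.T0 →* ℂˣ, (η t : ℂ) = 0 := by
        rw [sub_mul, h3, one_mul, sub_self]
      exact (mul_eq_zero.1 this).resolve_left (sub_ne_zero.2 (by simpa using hφ))
  set m : ℂ := (Nat.card ↥S.T0 : ℂ) with hm
  have hm0 : m ≠ 0 := by simp [hm]
  -- the multiplicity of `sg v` on `W × T₀`
  let e : ↥P.W × ↥S.T0 →* G := P.mulHom.comp ((MonoidHom.id ↥P.W).prodMap S.T0.subtype)
  have hn : ∀ v : ↥P.W, ∃ n : ℕ, (4 * m)⁻¹ * ∑ y : ↥P.W, (P.sg v y : ℂ) *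
      ∑ t : ↥S.T0, conj ((χ : G → ℂ) ((y : G) * ((t : ↥P.K) : G))) = (n : ℂ) := by
    intro v
    obtain ⟨n, hn⟩ := classInner_isChar_nat
      (isCharacter_hom ((P.sg v).comp (MonoidHom.fst ↥P.W ↥S.T0)))
      (CharInduce.IsChar.comp (IsIrr.isCharacter χ.2) e)
    refine ⟨n, ?_⟩
    rw [← hn, classInner_def, Nat.card_prod, IsKleinFour.card_four, Fintype.sum_prod_type]
    push_cast
    simp [Finset.mul_sum, e, hm]
  choose n hn using hn
  have hsum : ∀ v, ∑ η : ↥S.T0 →* ℂˣ, S.dsum v η (χ : G → ℂ) =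
      m * n v - (4 : ℂ)⁻¹ * ∑ y : ↥P.W, (P.sg v y : ℂ) * conj ((χ : G → ℂ) (y : G)) := by
    intro v
    simp only [dsum, ← Finset.mul_sum]
    rw [Finset.sum_comm]
    simp only [← Finset.mul_sum]
    have e1 : ∀ y : ↥P.W, ∑ η : ↥S.T0 →* ℂˣ, ∑ t : ↥S.T0,
        (1 - (η t : ℂ)) * conj ((χ : G → ℂ) ((y : G) * ((t : ↥P.K) : G))) =
        m * ∑ t : ↥S.T0, conj ((χ : G → ℂ) ((y : G) * ((t : ↥P.K) : G))) -
          m * conj ((χ : G → ℂ) (y : G)) := by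
      intro y
      rw [Finset.sum_comm]
      simp only [← Finset.sum_mul, Finset.sum_sub_distrib, Finset.sum_const, Finset.card_univ,
        nsmul_eq_mul, mul_one, hcard, horth, sub_mul, ite_mul, zero_mul, Finset.sum_ite_eq',
        Finset.mem_univ, if_true, OneMemClass.coe_one, ← Finset.mul_sum, ← hm]
    simp only [e1]
    rw [← hn v, show ∀ F H : ↥P.W → ℂ, ∑ y : ↥P.W, (P.sg v y : ℂ) * (m * F y - m * H y) =
      m * ((∑ y : ↥P.W, (P.sg v y : ℂ) * F y) - ∑ y : ↥P.W, (P.sg v y : ℂ) * H y) from fun F H => by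
        rw [← Finset.sum_sub_distrib, Finset.mul_sum]
        exact Finset.sum_congr rfl fun y _ => by ring]
    field_simp
    rw [hm]
  have hN : ∀ v, (4 : ℂ)⁻¹ * ∑ y : ↥P.W, (P.sg v y : ℂ) * conj ((χ : G → ℂ) (y : G)) =
      (c v : ℂ) + m * ((n v : ℂ) - c v) := by
    intro v
    have h0 : S.dsum v 1 (χ : G → ℂ) = 0 := by simp [dsum]
    have h2 : ∑ η : ↥S.T0 →* ℂˣ, S.dsum v η (χ : G → ℂ) = (m - 1) * c v := by
      rw [← Finset.add_sum_erase _ _ (Finset.mem_univ 1), h0, zero_add,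
        Finset.sum_congr rfl fun η hη => hc v η (Finset.ne_of_mem_erase hη), Finset.sum_const,
        Finset.card_erase_of_mem (Finset.mem_univ _), Finset.card_univ, nsmul_eq_mul,
        Nat.cast_sub Fintype.card_pos, hcard, Nat.cast_one]
    rw [hsum] at h2
    linear_combination -h2
  have hreal : conj ((χ : G → ℂ) (x : G)) = (χ : G → ℂ) (x : G) := by
    rw [H83.irr_conj_apply χ.2, inv_eq_of_mul_eq_one_left (P.mul_self x.2)]
  have hinv : (χ : G → ℂ) (x : G) = ∑ v : ↥P.W, (P.sg v x : ℂ) *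
      ((4 : ℂ)⁻¹ * ∑ y : ↥P.W, (P.sg v y : ℂ) * conj ((χ : G → ℂ) (y : G))) := by
    simp only [Finset.mul_sum]
    rw [Finset.sum_comm]
    have e2 : ∀ y : ↥P.W, ∑ v : ↥P.W, (P.sg v x : ℂ) *
        ((4 : ℂ)⁻¹ * ((P.sg v y : ℂ) * conj ((χ : G → ℂ) (y : G)))) =
        if y = x then conj ((χ : G → ℂ) (y : G)) else 0 := by
      intro y
      rw [Finset.sum_congr rfl fun v _ => show (P.sg v x : ℂ) *
          ((4 : ℂ)⁻¹ * ((P.sg v y : ℂ) * conj ((χ : G → ℂ) (y : G)))) =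
          (P.sg v (x * y) : ℂ) * ((4 : ℂ)⁻¹ * conj ((χ : G → ℂ) (y : G))) by
            rw [map_mul, Units.val_mul]; ring, ← Finset.sum_mul, P.sum_sg]
      have hxy : x * y = 1 ↔ y = x := by
        rw [mul_eq_one_iff_inv_eq, show x⁻¹ = x from inv_eq_of_mul_eq_one_left
          (IsKleinFour.mul_self x), eq_comm]
      simp only [hxy]
      split_ifs <;> ring
    simp only [e2, Finset.sum_ite_eq', Finset.mem_univ, if_true, hreal]
  refine ⟨∑ v : ↥P.W, (if v = 1 ∨ x = 1 ∨ x = v then 1 else -1) * ((n v : ℤ) - c v), ?_⟩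
  rw [hinv]
  simp only [hN]
  push_cast
  rw [Finset.mul_sum, ← Finset.sum_add_distrib]
  refine Finset.sum_congr rfl fun v _ => ?_
  rw [P.sg_eq]
  ring

end Twists

namespace Cols

variable [Fintype G] {P : ExtPair G} {Λ : Type w} [Fintype Λ] {S : Twists P Λ} [Fintype ↥P.K]
  [Fintype ↥P.W] [Fintype ↥S.T0]
  {lam : ↥P.K →* ℂˣ} {x0 : ↥P.W} (C : Cols S lam x0)
  (hlamFo : ∀ z ∈ S.Fo, lam z = 1) (hlam : P.Adapted lam)
  (hfix : ∀ c, ∀ z ∈ S.Fo, P.actK c z = z)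
include hlamFo hlam hfix

/-- **congruence on a row of a column** -/
theorem congr_row {χ : IrrCharacter G} {l₀ : Λ} {i₀ : Fin 3} (hχ : C.a l₀ i₀ χ ≠ 0)
    (c : ↥P.W → ℤ)
    (hc : ∀ lam', P.Adapted lam' → (∀ z ∈ S.Fo, lam' z = 1) →
      ∀ v, ∑ l : Λ, P.lcoef v (S.tw l) lam' χ = c v) (x : ↥P.W) :
    ∃ n : ℤ, (χ : G → ℂ) (x : G) =
      ∑ v : ↥P.W, (P.sg v x : ℂ) * (c v : ℂ) + (Nat.card ↥S.T0 : ℂ) * (n : ℂ) := by
  refine S.congr_of_dsum χ c (fun v η hη1 => ?_) x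
  have hl := S.sum_lcoef v lam χ
  rw [hc lam hlam hlamFo v] at hl
  by_cases hη : S.M η = ⊤
  · have h := S.sum_lcoef v (S.extTop η hη) χ
    rw [hc _ (S.extTop_adapted hη1 hη hfix) (S.extTop_Fo η hη) v, S.res0_extTop] at h
    exact h.symm
  · have h := S.sum_ncoef v η lam χ
    simp only [C.ncoef_zero hlamFo hlam η hη v _ hχ, Finset.sum_const_zero, Int.cast_zero] at h
    rw [hl, ← sub_eq_zero.1 ((mul_eq_zero.1 h.symm).resolve_left
      (Nat.cast_ne_zero.2 Subgroup.index_ne_zero_of_finite))]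

/-- **pair rows**: the degree and the value at `x ≠ 1` -/
theorem congr_block (hC : ∀ lam', P.Adapted lam' → (∀ z ∈ S.Fo, lam' z = 1) →
      ∃ C' : Cols S lam' x0, C'.a = C.a)
    {χ : IrrCharacter G} {l₀ : Λ} {i₀ : Fin 3} (hχ : C.a l₀ i₀ χ ≠ 0)
    (hH : ∀ lam', P.Adapted lam' → (∀ z ∈ S.Fo, lam' z = 1) →
      ∀ v, v ≠ 1 → P.lcoef v (S.tw l₀) lam' χ = 0) :
    (Nat.card ↥S.T0 : ℤ) ∣
        (charDegree (χ : G → ℂ) : ℤ) - (C.a l₀ 0 χ - C.a l₀ 1 χ - C.a l₀ 2 χ) ∧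
      ∀ (x : ↥P.W) (d : ℤ), x ≠ 1 → (χ : G → ℂ) (x : G) = d →
        (Nat.card ↥S.T0 : ℤ) ∣ d - (C.a l₀ 0 χ - C.a l₀ 1 χ - C.a l₀ 2 χ) := by
  set s : ℤ := C.a l₀ 0 χ - C.a l₀ 1 χ - C.a l₀ 2 χ with hs
  have hc : ∀ lam', P.Adapted lam' → (∀ z ∈ S.Fo, lam' z = 1) →
      ∀ v, ∑ l : Λ, P.lcoef v (S.tw l) lam' χ = if v = 1 then s else 0 := by
    intro lam' h1 h2 v
    obtain ⟨C', hC'⟩ := hC lam' h1 h2
    have hχ' : ∃ i, C'.a l₀ i χ ≠ 0 := ⟨i₀, by rw [hC']; exact hχ⟩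
    rw [Finset.sum_eq_single l₀ (fun l _ hl => C'.lcoef_eq_zero_cross h2 h1 v hl hχ') (by simp)]
    split_ifs with hv
    · obtain ⟨w, hw⟩ := P.exists_ne_W h1
      have h3 := C'.lcoef_sub h2 h1 v w l₀ l₀ hχ'
      rw [hH lam' h1 h2 w hw, if_pos rfl, if_pos hv, if_neg hw, hC', ← hs] at h3
      omega
    · exact hH lam' h1 h2 v hv
  have key : ∀ (x : ↥P.W) (d : ℤ), (χ : G → ℂ) (x : G) = d → (Nat.card ↥S.T0 : ℤ) ∣ d - s := by
    intro x d hd
    obtain ⟨n, hn⟩ := C.congr_row hlamFo hlam hfix hχ _ hc x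
    rw [Finset.sum_eq_single (1 : ↥P.W) (fun v _ hv => by simp [hv]) (by simp), hd, if_pos rfl,
      P.sg_one, MonoidHom.one_apply, Units.val_one, one_mul] at hn
    refine ⟨n, ?_⟩
    have : ((d - s : ℤ) : ℂ) = (((Nat.card ↥S.T0 : ℤ) * n : ℤ) : ℂ) := by
      push_cast
      linear_combination hn
    exact_mod_cast this
  exact ⟨key 1 _ (by rw [OneMemClass.coe_one, Int.cast_natCast]; exact (H83.charDegree_eq χ.2).1),
    fun x d _ hd => key x d hd⟩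

end Cols

end Cfsg.Agent.H40.WardE
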