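import Cfsg.Agent.H40.WardE.Diff

/-!
The twists agreeing on a subgroup over `T₀`, and the sum of the differences over all twists.
-/

set_option autoImplicit false
set_option linter.unusedSectionVars false
set_option linter.style.haveILetI false

namespace Cfsg.Agent.H40.WardE

open Subgroup Cfsg Cfsg.Agent Cfsg.Agent.CharBasic Cfsg.Agent.CharInduce
open scoped ComplexConjugate

universe u w

variable {G : Type u} [Group G]

namespace Twists

variable {P : ExtPair G} {Λ : Type w} [Fintype Λ] (S : Twists P Λ)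

open scoped Classical in
/-- `|K : M|` twists agree on `M` -/
theorem rel_card [Finite G] (M : Subgroup ↥P.K) (hM : S.T0 ≤ M) (l : Λ) :
    Fintype.card {l' : Λ // (S.tw l').comp M.subtype = (S.tw l).comp M.subtype} = M.index := by
  haveI : Fintype ↥M := Fintype.ofFinite _
  haveI : Fintype ↥P.K := Fintype.ofFinite _
  have h : ∑ l' : Λ, classInner (fun m => (((S.tw l').comp M.subtype) m : ℂ))
      (fun m => (((S.tw l).comp M.subtype) m : ℂ)) = (M.index : ℂ) := by
    simp only [classInner_def, ← Finset.mul_sum]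
    rw [Finset.sum_comm]
    simp only [← Finset.sum_mul, MonoidHom.comp_apply, Subgroup.coe_subtype, S.sum_tw]
    have e : ∀ m : ↥M, (if (m : ↥P.K) ∈ S.T0 then (Fintype.card Λ : ℂ) else 0) *
        conj (S.tw l m : ℂ) = if (m : ↥P.K) ∈ S.T0 then (Fintype.card Λ : ℂ) else 0 := fun m => by
      split_ifs with hm
      · simp [S.tw_T0 l _ hm]
      · rw [zero_mul]
    simp only [e]
    rw [← Finset.sum_filter, Finset.sum_const, ← Fintype.card_subtype, nsmul_eq_mul]
    have hcard : Fintype.card {m : ↥M // (m : ↥P.K) ∈ S.T0} = Nat.card ↥S.T0 := by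
      rw [← Nat.card_eq_fintype_card]
      exact Nat.card_congr ⟨fun m => ⟨_, m.2⟩, fun t => ⟨⟨_, hM t.2⟩, t.2⟩, fun _ => rfl,
        fun _ => rfl⟩
    rw [hcard]
    have hK : (Nat.card ↥M : ℂ) * M.index = (Fintype.card Λ : ℂ) * Nat.card ↥S.T0 := by
      exact_mod_cast (Subgroup.card_mul_index M).trans S.card_tw.symm
    have hM0 : (Nat.card ↥M : ℂ) ≠ 0 := by simp
    field_simp
    linear_combination -hK
  simp only [classInner_hom, Finset.sum_boole] at h
  rw [Fintype.card_subtype]
  exact_mod_cast h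

theorem tw_injective [Finite G] : Function.Injective S.tw := by
  classical
  intro l l' h
  have h1 := S.rel_card ⊤ le_top l
  rw [Subgroup.index_top] at h1
  exact congrArg Subtype.val ((Fintype.card_le_one_iff.1 h1.le) ⟨l, rfl⟩
    ⟨l', by rw [h]⟩)

open scoped Classical in
/-- the sum of the twisted functions is supported on `T₀` -/
theorem sum_twist [Finite G] [Fintype ↥P.K] (F : ↥P.K → ℂ) (f : ↥P.K → ℂ) :
    ∑ l : Λ, ∑ k : ↥P.K, (S.tw l k : ℂ) * F k * f k =
      (Fintype.card Λ : ℂ) * ∑ k ∈ Finset.univ.filter (· ∈ S.T0), F k * f k := by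
  rw [Finset.sum_comm, Finset.mul_sum, Finset.sum_filter]
  refine Finset.sum_congr rfl fun k _ => ?_
  rw [← Finset.sum_mul, ← Finset.sum_mul, S.sum_tw]
  split_ifs <;> ring

end Twists

end Cfsg.Agent.H40.WardE
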