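import Cfsg.Agent.H40.WardE.ExtChars

/-!
`Ind_T^G(s ⊗ ψ)` for a class function `ψ` of `K` supported on elements with centraliser in `T`.
-/

set_option autoImplicit false
set_option linter.unusedSectionVars false
set_option linter.style.haveILetI false

namespace Cfsg.Agent.H40.WardE

open Subgroup Cfsg Cfsg.Agent Cfsg.Agent.CharBasic Cfsg.Agent.CharInduce
open scoped ComplexConjugate

universe u

variable {G : Type u} [Group G]

namespace ExtPair

variable (P : ExtPair G)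

/-- `s ⊗ ψ` -/
noncomputable def phiC (s : ↥P.W → ℂ) (ψ : ↥P.K → ℂ) (a : ↥P.T) : ℂ :=
  s (P.equiv.symm a).1 * ψ (P.equiv.symm a).2

theorem phiC_equiv (s : ↥P.W → ℂ) (ψ : ↥P.K → ℂ) (x : ↥P.W) (k : ↥P.K) :
    P.phiC s ψ (P.equiv (x, k)) = s x * ψ k := by
  simp [phiC]

/-- `Ind_T^G(s ⊗ ψ)` -/
noncomputable def indC [Fintype G] (s : ↥P.W → ℂ) (ψ : ↥P.K → ℂ) : G → ℂ :=
  indFun P.T (P.phiC s ψ)

theorem indC_isClass [Fintype G] (s : ↥P.W → ℂ) (ψ : ↥P.K → ℂ) :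
    IsClassFunction G (P.indC s ψ) := isClassFunction_indFun _ _

theorem ind_eq_indC [Fintype G] (s : ↥P.W → ℂ) (μ lam : ↥P.K →* ℂˣ) :
    P.ind s μ lam = P.indC s (fun k => (μ k : ℂ) * (1 - (lam k : ℂ))) := rfl

theorem indC_isGen [Fintype G] (s : ↥P.W →* ℂˣ) {ψ : ↥P.K → ℂ}
    (hψ : IsGeneralizedCharacter ↥P.K ψ) :
    IsGeneralizedCharacter G (P.indC (fun x => (s x : ℂ)) ψ) := by
  haveI : Fintype ↥P.T := Fintype.ofFinite _
  refine IsGen.ind P.T ?_
  have e : P.phiC (fun x => (s x : ℂ)) ψ =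
      (fun a : ↥P.T => (((s.comp (MonoidHom.fst ↥P.W ↥P.K)).comp P.equiv.symm.toMonoidHom) a : ℂ)) *
        fun a : ↥P.T => ψ (((MonoidHom.snd ↥P.W ↥P.K).comp P.equiv.symm.toMonoidHom) a) := by
    funext a
    simp [phiC]
  rw [e]
  exact IsGen.mul (IsGen.of_char (isCharacter_hom _))
    (IsGen.comp hψ ((MonoidHom.snd ↥P.W ↥P.K).comp P.equiv.symm.toMonoidHom))

theorem indC_one [Fintype G] (s : ↥P.W → ℂ) {ψ : ↥P.K → ℂ} (hψ : ψ 1 = 0) : P.indC s ψ 1 = 0 := by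
  rw [indC, indFun_one, phiC, map_one]
  simp [hψ]

theorem phiC_class (s : ↥P.W → ℂ) {ψ : ↥P.K → ℂ} (hψ : ∀ k l : ↥P.K, ψ (l * k * l⁻¹) = ψ k)
    (a b : ↥P.T) : P.phiC s ψ (b * a * b⁻¹) = P.phiC s ψ a := by
  obtain ⟨⟨x, k⟩, rfl⟩ := P.equiv.surjective a
  obtain ⟨⟨y, l⟩, rfl⟩ := P.equiv.surjective b
  haveI := P.klein
  haveI : IsMulCommutative ↥P.W := IsKleinFour.isMulCommutative
  rw [← map_inv, ← map_mul, ← map_mul, Prod.inv_mk, Prod.mk_mul_mk, Prod.mk_mul_mk, P.phiC_equiv,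
    P.phiC_equiv, hψ, show y * x * y⁻¹ = x by rw [mul_comm' (a := y), mul_inv_cancel_right]]

/-- Frobenius reciprocity -/
theorem classInner_indC [Fintype G] [Fintype ↥P.W] [Fintype ↥P.K] (s : ↥P.W → ℂ) (ψ : ↥P.K → ℂ)
    {f : G → ℂ} (hf : IsClassFunction G f) :
    classInner (P.indC s ψ) f = ((4 : ℂ) * Nat.card ↥P.K)⁻¹ *
      ∑ x : ↥P.W, ∑ k : ↥P.K, s x * ψ k * conj (f ((x : G) * k)) := by
  haveI : Fintype ↥P.T := Fintype.ofFinite _
  haveI := P.klein
  rw [indC, classInner_indFun_left _ _ _ hf, ← classInner_comp_mulEquiv P.equiv, classInner_def,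
    Nat.card_prod, IsKleinFour.card_four, Fintype.sum_prod_type]
  push_cast
  simp only [phiC_equiv, equiv_coe]

variable {lam : ↥P.K →* ℂˣ} (hlam : P.Adapted lam)
include hlam

variable [Fintype G]

/-- values on `T` -/
theorem ind_apply_of_cent (φ : ↥P.T → ℂ) (hcl : ∀ a b : ↥P.T, φ (b * a * b⁻¹) = φ a)
    (hφ : ∀ a, φ a ≠ 0 → centralizer ({((P.equiv.symm a).2 : G)} : Set G) ≤ P.T) (a : ↥P.T) :
    indFun P.T φ (a : G) = ∑ c : Fin 3 × Fin 2,
      extendByZero P.T φ ((P.rep c)⁻¹ * a * P.rep c) := by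
  classical
  haveI : Fintype ↥P.T := Fintype.ofFinite _
  rw [indFun_apply]
  set f : G → ℂ := fun g => extendByZero P.T φ (g⁻¹ * a * g) with hf
  have hsum : ∑ g : G, f g = ∑ p : (Fin 3 × Fin 2) × ↥P.T, f (P.rep p.1 * p.2) := by
    have himg := Finset.sum_image (s := (Finset.univ : Finset ((Fin 3 × Fin 2) × ↥P.T)))
      (f := f) (g := fun p => P.rep p.1 * p.2) fun p _ p' _ h => P.rep_inj hlam h
    rw [← himg]
    refine (Finset.sum_subset (Finset.subset_univ _) fun g _ hg => ?_).symm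
    by_contra hne
    have hmem : g⁻¹ * a * g ∈ P.T := by
      by_contra h
      exact hne (extendByZero_of_not_mem _ h)
    have hl : φ ⟨_, hmem⟩ ≠ 0 := fun e => hne (by
      simp only [hf]
      rw [extendByZero_of_mem _ hmem, e])
    obtain ⟨c, τ, hg'⟩ := P.exists_rep_of_cent a.2 hmem (hφ _ hl)
    exact hg (Finset.mem_image.2 ⟨(c, τ), Finset.mem_univ _, hg'.symm⟩)
  rw [hsum, Fintype.sum_prod_type, Finset.mul_sum]
  refine Finset.sum_congr rfl fun c _ => ?_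
  have hconst : ∀ τ : ↥P.T, f (P.rep c * τ) =
      extendByZero P.T φ ((P.rep c)⁻¹ * a * P.rep c) := by
    intro τ
    obtain ⟨b, hb⟩ := Finite.surjective_of_injective (P.actT_injective c) a
    have hb' : P.rep c * b * (P.rep c)⁻¹ = (a : G) := congrArg Subtype.val hb
    simp only [hf]
    rw [← hb', show (P.rep c * τ)⁻¹ * (P.rep c * b * (P.rep c)⁻¹) * (P.rep c * τ) =
        ((τ⁻¹ * b * τ : ↥P.T) : G) by simp only [Subgroup.coe_mul, InvMemClass.coe_inv]; group,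
      show (P.rep c)⁻¹ * (P.rep c * b * (P.rep c)⁻¹) * P.rep c = (b : G) by group,
      extendByZero_coe, extendByZero_coe]
    simpa using hcl b τ⁻¹
  rw [Finset.sum_congr rfl fun τ _ => hconst τ, Finset.sum_const, Finset.card_univ,
    ← Nat.card_eq_fintype_card, nsmul_eq_mul, ← mul_assoc, inv_mul_cancel₀ (by simp), one_mul]

/-- inner products: the six translates -/
theorem classInner_indC_indC [Fintype ↥P.W] [Fintype ↥P.K] (s s' : ↥P.W → ℂ) (ψ : ↥P.K → ℂ)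
    {ψ' : ↥P.K → ℂ} (hcl : ∀ k l : ↥P.K, ψ' (l * k * l⁻¹) = ψ' k)
    (hsupp : ∀ k : ↥P.K, ψ' k ≠ 0 → centralizer ({(k : G)} : Set G) ≤ P.T) :
    classInner (P.indC s ψ) (P.indC s' ψ') = ∑ c : Fin 3 × Fin 2,
      ((4 : ℂ)⁻¹ * ∑ x : ↥P.W, s (P.actW c x) * conj (s' x)) *
        classInner (fun k => ψ (P.actK c k)) ψ' := by
  classical
  haveI : Fintype ↥P.T := Fintype.ofFinite _
  haveI := P.klein
  rw [indC, indC, classInner_indFun_left _ _ _ (isClassFunction_indFun _ _)]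
  have hH : ∀ a : ↥P.T, indFun P.T (P.phiC s' ψ') (a : G) = ∑ c : Fin 3 × Fin 2,
      extendByZero P.T (P.phiC s' ψ') ((P.rep c)⁻¹ * a * P.rep c) := fun a =>
    P.ind_apply_of_cent hlam _ (P.phiC_class s' hcl)
      (fun b hb => hsupp _ (right_ne_zero_of_mul hb)) a
  have hterm : classInner (P.phiC s ψ) (fun a : ↥P.T => indFun P.T (P.phiC s' ψ') (a : G)) =
      ∑ c : Fin 3 × Fin 2, classInner (fun b => P.phiC s ψ (P.actT c b)) (P.phiC s' ψ') := by
    simp only [classInner_def, hH, map_sum, Finset.mul_sum]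
    rw [Finset.sum_comm]
    refine Finset.sum_congr rfl fun c _ => ?_
    have hb : Function.Bijective (P.actT c) :=
      ⟨P.actT_injective c, Finite.surjective_of_injective (P.actT_injective c)⟩
    refine (Fintype.sum_bijective _ hb _ _ fun b => ?_).symm
    congr 3
    rw [show (P.rep c)⁻¹ * (P.actT c b : G) * P.rep c = (b : G) by simp [actT]; group,
      extendByZero_coe]
  rw [hterm]
  refine Finset.sum_congr rfl fun c _ => ?_
  rw [← classInner_comp_mulEquiv P.equiv]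
  have e1 : (fun y : ↥P.W × ↥P.K => P.phiC s ψ (P.actT c (P.equiv y))) =
      fun y => s (P.actW c y.1) * ψ (P.actK c y.2) := by
    funext y
    rw [P.actT_equiv c y.1 y.2, P.phiC_equiv]
  have e2 : (fun y : ↥P.W × ↥P.K => P.phiC s' ψ' (P.equiv y)) = fun y => s' y.1 * ψ' y.2 :=
    funext fun y => P.phiC_equiv s' ψ' y.1 y.2
  rw [e1, e2, classInner_outer (fun x => s (P.actW c x)) s' (fun k => ψ (P.actK c k)) ψ',
    classInner_def, IsKleinFour.card_four]
  push_cast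
  ring

/-- inner products with a class function vanishing on the support in `K` -/
theorem classInner_indC_split [Fintype ↥P.K] (s : ↥P.W → ℂ) (ψ : ↥P.K → ℂ) {f : G → ℂ}
    (hf : IsClassFunction G f) {x0 : ↥P.W} (hx0 : x0 ≠ 1)
    (h0 : ∀ k : ↥P.K, ψ k ≠ 0 → f (k : G) = 0) {g : ↥P.K → ℂ}
    (hg : ∀ k : ↥P.K, (∃ i : Fin 3, ψ (P.actK (i, 0) k) ≠ 0) → f ((x0 : G) * k) = g k) :
    classInner (P.indC s ψ) f = ((4 : ℂ) * Nat.card ↥P.K)⁻¹ *
      ∑ i : Fin 3, s (P.actW (i, 0) x0) *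
        ∑ k : ↥P.K, ψ (P.actK (i, 0) k) * conj (g k) := by
  haveI : Fintype ↥P.W := Fintype.ofFinite _
  rw [P.classInner_indC s ψ hf, P.sum_W hlam hx0]
  have h1 : ∀ k : ↥P.K, s 1 * ψ k * conj (f (((1 : ↥P.W) : G) * k)) = 0 := fun k => by
    by_cases hk : ψ k = 0
    · simp [hk]
    · simp [h0 k hk]
  rw [Finset.sum_eq_zero fun k _ => h1 k, zero_add]
  congr 1
  refine Finset.sum_congr rfl fun i _ => ?_
  rw [Finset.mul_sum]
  have hb : Function.Bijective (P.actK (i, 0)) :=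
    ⟨P.actK_injective _, Finite.surjective_of_injective (P.actK_injective _)⟩
  refine (Fintype.sum_bijective _ hb _ _ fun k => ?_).symm
  by_cases hk : ψ (P.actK (i, 0) k) = 0
  · simp [hk]
  · have hconj : f ((P.actW (i, 0) x0 : G) * (P.actK (i, 0) k : G)) = g k := by
      rw [← hg k ⟨i, hk⟩, ← hf ((x0 : G) * k) (P.rep (i, 0)), actW_coe, actK_coe]
      congr 1
      group
    rw [hconj]
    ring

end ExtPair

end Cfsg.Agent.H40.WardE
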