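import Cfsg.Agent.CharInduce.Ops
import Cfsg.Agent.CharInduce.Induce

/-!
`ψ = Ind_M^K(β - γ)` for two linear characters of a normal subgroup `M`: support, inner products
with linear characters and with its translates.
-/

set_option autoImplicit false
set_option linter.unusedSectionVars false
set_option linter.style.haveILetI false

namespace Cfsg.Agent.H40.WardE

open Subgroup Cfsg Cfsg.Agent Cfsg.Agent.CharBasic Cfsg.Agent.CharInduce
open scoped ComplexConjugate

universe u

variable {A : Type u} [Group A] [Fintype A]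

theorem psi_sum_hom {B : Type u} [Group B] [Fintype B] (μ : B →* ℂˣ) :
    ∑ b : B, (μ b : ℂ) = open Classical in if μ = 1 then (Nat.card B : ℂ) else 0 := by
  classical
  split_ifs with h
  · subst h; simp [← Nat.card_eq_fintype_card]
  · obtain ⟨a, ha⟩ : ∃ a, μ a ≠ 1 := by
      by_contra hc
      push Not at hc
      exact h (MonoidHom.ext hc)
    have h3 := Fintype.sum_equiv (Equiv.mulLeft a) (fun x => (μ (a * x) : ℂ))
      (fun x => (μ x : ℂ)) (fun x => rfl)
    simp only [map_mul, Units.val_mul, ← Finset.mul_sum] at h3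
    have : ((μ a : ℂ) - 1) * ∑ b : B, (μ b : ℂ) = 0 := by rw [sub_mul, h3, one_mul, sub_self]
    exact (mul_eq_zero.1 this).resolve_left (sub_ne_zero.2 (by simpa using ha))

theorem classInner_hom {B : Type u} [Group B] [Fintype B] (μ ν : B →* ℂˣ) :
    classInner (fun b => (μ b : ℂ)) (fun b => (ν b : ℂ)) =
      open Classical in if μ = ν then 1 else 0 := by
  classical
  have e : ∀ b, (μ b : ℂ) * conj (ν b : ℂ) = ((μ * ν⁻¹ : B →* ℂˣ) b : ℂ) := fun b => by
    have hn := norm_hom ν b
    have hmul : (ν b : ℂ) * conj (ν b : ℂ) = 1 := by rw [Complex.mul_conj', hn]; norm_num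
    rw [MonoidHom.mul_apply, MonoidHom.inv_apply, Units.val_mul, Units.val_inv_eq_inv_val,
      eq_inv_of_mul_eq_one_right hmul]
  have hiff : μ * ν⁻¹ = 1 ↔ μ = ν := by simp [MonoidHom.ext_iff, mul_inv_eq_one]
  rw [classInner_def, Finset.sum_congr rfl fun b _ => e b, psi_sum_hom]
  simp only [hiff]
  split_ifs <;> simp

variable (M : Subgroup A) (β γ : ↥M →* ℂˣ)

/-- `Ind_M^A(β - γ)` -/
noncomputable def psi : A → ℂ := indFun M fun m => (β m : ℂ) - (γ m : ℂ)

theorem psi_class (a b : A) : psi M β γ (b * a * b⁻¹) = psi M β γ a :=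
  isClassFunction_indFun _ _ a b

theorem psi_isGen : IsGeneralizedCharacter A (psi M β γ) := by
  haveI : Fintype ↥M := Fintype.ofFinite _
  exact IsGen.ind M ⟨_, _, isCharacter_hom β, isCharacter_hom γ, rfl⟩

theorem psi_one : psi M β γ 1 = 0 := by
  rw [psi, indFun_one, map_one, map_one]
  simp

/-- the support -/
theorem exists_of_psi_ne {a : A} (h : psi M β γ a ≠ 0) :
    ∃ g : A, ∃ hm : g⁻¹ * a * g ∈ M, β ⟨_, hm⟩ ≠ γ ⟨_, hm⟩ := by
  by_contra hc
  push Not at hc
  refine h ?_
  rw [psi, indFun_apply, Finset.sum_eq_zero, mul_zero]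
  intro g _
  by_cases hm : g⁻¹ * a * g ∈ M
  · rw [extendByZero_of_mem _ hm, hc g hm, sub_self]
  · exact extendByZero_of_not_mem _ hm

open scoped Classical in
/-- inner product with a linear character -/
theorem classInner_psi_hom (ρ : A →* ℂˣ) :
    classInner (psi M β γ) (fun a => (ρ a : ℂ)) =
      (if β = ρ.comp M.subtype then 1 else 0) - if γ = ρ.comp M.subtype then 1 else 0 := by
  have h : classInner (psi M β γ) (fun a => (ρ a : ℂ)) =
      classInner (fun m => (β m : ℂ)) (fun m => ((ρ.comp M.subtype) m : ℂ)) -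
        classInner (fun m => (γ m : ℂ)) (fun m => ((ρ.comp M.subtype) m : ℂ)) := by
    rw [psi, classInner_indFun_left _ _ _ (fun a b => by simp [mul_comm (ρ b)]), classInner_def,
      classInner_def, classInner_def, ← mul_sub, ← Finset.sum_sub_distrib]
    congr 1
    refine Finset.sum_congr rfl fun m _ => ?_
    simp only [MonoidHom.comp_apply, Subgroup.coe_subtype]
    ring
  rw [h, classInner_hom, classInner_hom]

variable [M.Normal]

/-- `m ↦ g⁻¹ φ(m) g` on `M` -/
def twist (φ : A →* A) (hφ : ∀ m ∈ M, φ m ∈ M) (g : A) : ↥M →* ↥M where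
  toFun m := ⟨g⁻¹ * φ m * g, by
    simpa using Subgroup.Normal.conj_mem ‹M.Normal› _ (hφ m m.2) g⁻¹⟩
  map_one' := Subtype.ext (by simp)
  map_mul' a b := Subtype.ext (by simp only [Subgroup.coe_mul, map_mul]; group)

@[simp] theorem twist_coe (φ : A →* A) (hφ : ∀ m ∈ M, φ m ∈ M) (g : A) (m : ↥M) :
    (twist M φ hφ g m : A) = g⁻¹ * φ m * g := rfl

open scoped Classical in
/-- inner product with a translate -/
theorem classInner_psi_translate (φ : A →* A) (hφ : ∀ m ∈ M, φ m ∈ M) :
    classInner (fun a => psi M β γ (φ a)) (psi M β γ) = (Nat.card ↥M : ℂ)⁻¹ * ∑ g : A,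
      ((if β.comp (twist M φ hφ g) = β then 1 else 0) - (if β.comp (twist M φ hφ g) = γ then 1 else 0)
        - (if γ.comp (twist M φ hφ g) = β then 1 else 0) +
          if γ.comp (twist M φ hφ g) = γ then 1 else 0) := by
  have hcl : IsClassFunction A (fun a => psi M β γ (φ a)) := fun a b => by
    simp only [map_mul, map_inv, psi_class]
  have h := classInner_indFun_left M (fun m => (β m : ℂ) - (γ m : ℂ)) _ hcl
  rw [← classInner_conj_symm]
  rw [show indFun M (fun m => (β m : ℂ) - (γ m : ℂ)) = psi M β γ from rfl] at h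
  rw [h]
  have hres : ∀ m : ↥M, psi M β γ (φ m) = (Nat.card ↥M : ℂ)⁻¹ * ∑ g : A,
      ((β (twist M φ hφ g m) : ℂ) - (γ (twist M φ hφ g m) : ℂ)) := by
    intro m
    rw [psi, indFun_apply]
    congr 1
    refine Finset.sum_congr rfl fun g _ => ?_
    rw [show g⁻¹ * φ m * g = ((twist M φ hφ g m : ↥M) : A) from rfl, extendByZero_coe]
  rw [classInner_def]
  simp only [hres, map_mul, map_inv₀, map_natCast, map_sum, map_sub, Complex.conj_conj,
    Finset.mul_sum]
  rw [Finset.sum_comm]
  refine Finset.sum_congr rfl fun g _ => ?_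
  rw [← Finset.mul_sum]
  set b' := β.comp (twist M φ hφ g) with hb'
  set c' := γ.comp (twist M φ hφ g) with hc'
  have key : ∀ (e : ℂ),
      (∑ m : ↥M, (conj (β m : ℂ) - conj (γ m : ℂ)) * (e * ((b' m : ℂ) - (c' m : ℂ)))) *
        (Nat.card ↥M : ℂ)⁻¹ =
      e * (classInner (fun m => (b' m : ℂ)) (fun m => (β m : ℂ)) -
        classInner (fun m => (b' m : ℂ)) (fun m => (γ m : ℂ)) -
        classInner (fun m => (c' m : ℂ)) (fun m => (β m : ℂ)) +
        classInner (fun m => (c' m : ℂ)) (fun m => (γ m : ℂ))) := by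
    intro e
    rw [classInner_def, classInner_def, classInner_def, classInner_def, ← mul_sub, ← mul_sub,
      ← mul_add, ← Finset.sum_sub_distrib, ← Finset.sum_sub_distrib, ← Finset.sum_add_distrib,
      ← mul_assoc, Finset.mul_sum, Finset.sum_mul]
    exact Finset.sum_congr rfl fun m _ => by ring
  have hk := key (Nat.card ↥M : ℂ)⁻¹
  rw [classInner_hom, classInner_hom, classInner_hom, classInner_hom] at hk
  simp only [hb', hc', MonoidHom.comp_apply] at hk
  rw [mul_comm, hk]

open scoped Classical in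
/-- a translate without coincidences -/
theorem classInner_psi_translate_zero (φ : A →* A) (hφ : ∀ m ∈ M, φ m ∈ M)
    (h : ∀ g : A, β.comp (twist M φ hφ g) ≠ β ∧ β.comp (twist M φ hφ g) ≠ γ ∧
      γ.comp (twist M φ hφ g) ≠ β ∧ γ.comp (twist M φ hφ g) ≠ γ) :
    classInner (fun a => psi M β γ (φ a)) (psi M β γ) = 0 := by
  rw [classInner_psi_translate M β γ φ hφ, Finset.sum_eq_zero, mul_zero]
  intro g _
  obtain ⟨h1, h2, h3, h4⟩ := h g
  simp [h1, h2, h3, h4]

open scoped Classical in
/-- the norm -/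
theorem classInner_psi_self
    (hβ : ∀ g : A, β.comp (twist M (MonoidHom.id A) (fun m hm => hm) g) = β ↔ g ∈ M)
    (hγ : ∀ g : A, γ.comp (twist M (MonoidHom.id A) (fun m hm => hm) g) = γ)
    (hne : ∀ g : A, β.comp (twist M (MonoidHom.id A) (fun m hm => hm) g) ≠ γ) (hne' : γ ≠ β) :
    classInner (psi M β γ) (psi M β γ) = 1 + (M.index : ℂ) := by
  have h := classInner_psi_translate M β γ (MonoidHom.id A) fun m hm => hm
  simp only [MonoidHom.id_apply] at h
  rw [h]
  simp only [hβ, hγ, hne, hne', if_false, if_true, sub_zero, Finset.sum_add_distrib,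
    Finset.sum_const, Finset.card_univ, nsmul_eq_mul, mul_one]
  have hM : (∑ g : A, if g ∈ M then (1 : ℂ) else 0) = (Nat.card ↥M : ℂ) := by
    rw [Finset.sum_boole, Nat.card_eq_fintype_card, Fintype.card_subtype]
  have hA : (Fintype.card A : ℂ) = (Nat.card ↥M : ℂ) * M.index := by
    rw [← Nat.card_eq_fintype_card]
    exact_mod_cast (Subgroup.card_mul_index M).symm
  rw [hM, hA]
  have h0 : (Nat.card ↥M : ℂ) ≠ 0 := by simp
  field_simp

end Cfsg.Agent.H40.WardE
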