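import Cfsg.Agent.H40.WardE.Twists
import Cfsg.Agent.H40.WardE.Psi
import Cfsg.Agent.H40.WardE.ExtInd
import Cfsg.Agent.H40.WardE.ExtRows

/-!
`N l = Ind_T^G(s ⊗ tw l · Ind_M^K(η~ - lam))` for a moved character `η` of `T₀`: norm `|K : M| + 1`,
one product `1` with each lattice over `tw l|M`, orthogonal to the section rows.
-/

set_option autoImplicit false
set_option linter.unusedSectionVars false
set_option linter.style.haveILetI false

namespace Cfsg.Agent.H40.WardE

open Subgroup Cfsg Cfsg.Agent Cfsg.Agent.CharBasic Cfsg.Agent.CharInduce Cfsg.Agent.H84.Ward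
open scoped ComplexConjugate

universe u v w

variable {G : Type u} [Group G]

namespace Twists

variable {P : ExtPair G} {Λ : Type w} [Fintype Λ] (S : Twists P Λ) (η : ↥S.T0 →* ℂˣ)
  (lam : ↥P.K →* ℂˣ)

/-- `lam` on `T₀` -/
def res0 : ↥S.T0 →* ℂˣ := lam.comp S.T0.subtype

theorem M_res0 : S.M (S.res0 lam) = ⊤ := by
  refine eq_top_iff.2 fun g _ t => ?_
  show lam (g * t * g⁻¹) = lam t
  rw [map_mul, map_mul, map_inv, mul_comm (lam g), mul_inv_cancel_right]

theorem M_one : S.M 1 = ⊤ := eq_top_iff.2 fun _ _ _ => rfl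

theorem res0_ne_one (hlamFo : ∀ z ∈ S.Fo, lam z = 1) (h : lam ≠ 1) : S.res0 lam ≠ 1 := by
  intro e
  refine h (MonoidHom.ext fun k => ?_)
  obtain ⟨t, ht, z, hz, rfl⟩ := S.exists_eq k
  rw [map_mul, hlamFo z hz, mul_one]
  exact DFunLike.congr_fun e ⟨t, ht⟩

theorem actK_zero (k : ↥P.K) : P.actK 0 k = k := Subtype.ext (by simp [ExtPair.rep])

theorem move_zero_one (t : ↥S.T0) : S.move 0 1 t = t :=
  Subtype.ext (by simp [S.move_coe, actK_zero])

/-- the extension of `η` twisted -/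
noncomputable def bet (l : Λ) : ↥(S.M η) →* ℂˣ := S.ext η * (S.tw l).comp (S.M η).subtype

/-- `lam` twisted -/
noncomputable def gam (l : Λ) : ↥(S.M η) →* ℂˣ := (lam * S.tw l).comp (S.M η).subtype

/-- two twists agree on the stabiliser -/
def Rel (l l' : Λ) : Prop := (S.tw l).comp (S.M η).subtype = (S.tw l').comp (S.M η).subtype

/-- `tw l · Ind_M^K(η~ - lam)` -/
noncomputable def diff [Fintype ↥P.K] (l : Λ) : ↥P.K → ℂ :=
  psi (S.M η) (S.bet η l) (S.gam η lam l)

theorem bet_T0 (l : Λ) (t : ↥S.T0) : S.bet η l ⟨t, S.T0_le_M η t.2⟩ = η t := by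
  rw [bet, MonoidHom.mul_apply, MonoidHom.comp_apply, S.ext_T0]
  simp [S.tw_T0 l t t.2]

theorem gam_T0 (l : Λ) (t : ↥S.T0) : S.gam η lam l ⟨t, S.T0_le_M η t.2⟩ = S.res0 lam t := by
  simp [gam, res0, S.tw_T0 l t t.2]

theorem twist_T0 (c : Fin 3 × Fin 2) (g : ↥P.K) (t : ↥S.T0) :
    haveI := S.M_normal η
    twist (S.M η) (P.actK c) (S.actK_mem_M η c) g ⟨t, S.T0_le_M η t.2⟩ =
      ⟨S.move c g t, S.T0_le_M η (S.move c g t).2⟩ := Subtype.ext rfl

/-- translates meet only fixed characters -/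
theorem move_ne_res0 [Finite G] (hη : S.M η ≠ ⊤) (c : Fin 3 × Fin 2) (g : ↥P.K) :
    η.comp (S.move c g) ≠ S.res0 lam ∧ (S.res0 lam).comp (S.move c g) ≠ η := by
  constructor <;> intro h <;> refine hη (eq_top_iff.2 fun k _ t => ?_)
  · obtain ⟨k', hk'⟩ := Finite.surjective_of_injective (P.actK_injective c) (g * k * g⁻¹)
    obtain ⟨y, hy⟩ : ∃ y : ↥S.T0, S.move c g y = t := by
      refine Finite.surjective_of_injective (fun a b hab => Subtype.ext (P.actK_injective c ?_)) t
      exact mul_left_cancel (mul_right_cancel (congrArg Subtype.val hab))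
    have e : S.move c g ⟨k' * y * k'⁻¹, S.conj_mem y.2 k'⟩ =
        ⟨k * t * k⁻¹, S.conj_mem t.2 k⟩ := by
      apply Subtype.ext
      show g⁻¹ * P.actK c (k' * y * k'⁻¹) * g = k * t * k⁻¹
      rw [map_mul, map_mul, map_inv, hk', ← hy, S.move_coe]
      group
    show η ⟨k * t * k⁻¹, S.conj_mem t.2 k⟩ = η t
    rw [← e, ← hy]
    have h1 := DFunLike.congr_fun h ⟨k' * y * k'⁻¹, S.conj_mem y.2 k'⟩
    have h2 := DFunLike.congr_fun h y
    simp only [MonoidHom.comp_apply] at h1 h2
    rw [h1, h2]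
    show lam (k' * y * k'⁻¹) = lam y
    rw [map_mul, map_mul, map_inv, mul_comm (lam k'), mul_inv_cancel_right]
  · rw [← h]
    show lam (g⁻¹ * P.actK c (k * t * k⁻¹) * g) = lam (g⁻¹ * P.actK c t * g)
    simp only [map_mul, map_inv]
    rw [mul_comm (lam (P.actK c k)), mul_inv_cancel_right]

variable [Fintype ↥P.K]

theorem diff_class (l : Λ) (k h : ↥P.K) : S.diff η lam l (h * k * h⁻¹) = S.diff η lam l k :=
  psi_class _ _ _ k h

theorem diff_eq (l : Λ) (k : ↥P.K) :
    S.diff η lam l k =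
      (S.tw l k : ℂ) * psi (S.M η) (S.ext η) (lam.comp (S.M η).subtype) k := by
  rw [diff, psi, psi, indFun_apply, indFun_apply, mul_left_comm]
  congr 1
  rw [Finset.mul_sum]
  refine Finset.sum_congr rfl fun g _ => ?_
  by_cases hm : g⁻¹ * k * g ∈ S.M η
  · rw [extendByZero_of_mem _ hm, extendByZero_of_mem _ hm]
    have e : S.tw l (g⁻¹ * k * g) = S.tw l k := by
      rw [map_mul, map_mul, map_inv, mul_comm _ (S.tw l k), inv_mul_cancel_right]
    simp only [bet, gam, MonoidHom.mul_apply, MonoidHom.comp_apply, Subgroup.coe_subtype,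
      Units.val_mul, e]
    ring
  · rw [extendByZero_of_not_mem _ hm, extendByZero_of_not_mem _ hm, mul_zero]

variable (hlamFo : ∀ z ∈ S.Fo, lam z = 1)
include hlamFo

/-- the support meets no conjugate of the field part -/
theorem notMem_of_diff_ne [Finite G] {l : Λ} {k : ↥P.K} (h : S.diff η lam l k ≠ 0) :
    ∀ g : ↥P.K, g * k * g⁻¹ ∉ S.Fo := by
  obtain ⟨g, hm, hne⟩ := exists_of_psi_ne _ _ _ h
  have h1 := S.notMem_of_ext_ne η (lam := lam) hlamFo (m := ⟨_, hm⟩) fun e => hne (by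
    simp only [bet, gam, MonoidHom.mul_apply, MonoidHom.comp_apply, Subgroup.coe_subtype]
    rw [e])
  intro x hx
  refine h1 (x * g) ?_
  convert hx using 1
  group

variable {lam} (hlam : P.Adapted lam) (hη : S.M η ≠ ⊤)
include hlam hη

open scoped Classical in
/-- against a twist and a translate of `lam` twisted -/
theorem diff_ind [Finite G] (l l' : Λ) (c : Fin 3 × Fin 2) :
    classInner (fun k => (S.tw l' (P.actK c k) : ℂ) * (1 - (lam (P.actK c k) : ℂ)))
      (S.diff η lam l) = if c = 0 ∧ S.Rel η l l' then 1 else 0 := by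
  have e : (fun k => (S.tw l' (P.actK c k) : ℂ) * (1 - (lam (P.actK c k) : ℂ))) =
      (fun k => (S.tw l' k : ℂ)) - fun k => ((S.tw l' * lam.comp (P.actK c) : ↥P.K →* ℂˣ) k : ℂ) := by
    funext k
    have e1 := DFunLike.congr_fun (S.tw_fixed l' c) k
    simp only [MonoidHom.comp_apply] at e1
    simp only [Pi.sub_apply, MonoidHom.mul_apply, MonoidHom.comp_apply, Units.val_mul, e1]
    ring
  rw [e, classInner_sub_left, ← classInner_conj_symm,
    ← classInner_conj_symm _ (fun k => ((S.tw l' * lam.comp (P.actK c) : ↥P.K →* ℂˣ) k : ℂ)), diff,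
    classInner_psi_hom, classInner_psi_hom]
  have hne : η ≠ S.res0 lam := fun h => hη (h ▸ S.M_res0 lam)
  have hne1 : η ≠ 1 := fun h => hη (h ▸ S.M_one)
  have hl1 : S.res0 lam ≠ 1 := S.res0_ne_one lam hlamFo (P.lam_one_ne hlam)
  have htw : ∀ t : ↥S.T0, S.tw l' (t : ↥P.K) = 1 := fun t => S.tw_T0 l' t t.2
  have hb1 : S.bet η l ≠ (S.tw l').comp (S.M η).subtype := fun h => hne1 (MonoidHom.ext fun t => by
    rw [← S.bet_T0 η l t, h]; simp [htw])
  have hg1 : S.gam η lam l ≠ (S.tw l').comp (S.M η).subtype := fun h => hl1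
    (MonoidHom.ext fun t => by rw [← S.gam_T0 η lam l t, h]; simp [htw])
  have hb2 : S.bet η l ≠ (S.tw l' * lam.comp (P.actK c)).comp (S.M η).subtype := fun h =>
    (S.move_ne_res0 η lam hη c 1).2 (MonoidHom.ext fun t => by
      rw [← S.bet_T0 η l t, h]
      simp [htw, res0, S.move_coe])
  have hg2 : S.gam η lam l = (S.tw l' * lam.comp (P.actK c)).comp (S.M η).subtype ↔
      c = 0 ∧ S.Rel η l l' := by
    constructor
    · intro h
      have hc : c = 0 := by
        by_contra hc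
        refine S.move_ne hl1 hc 1 (MonoidHom.ext fun t => ?_)
        rw [← S.gam_T0 η lam l t, h]
        simp [htw, res0, S.move_coe]
      refine ⟨hc, MonoidHom.ext fun m => ?_⟩
      have hm := DFunLike.congr_fun h m
      subst hc
      simp only [gam, MonoidHom.comp_apply, MonoidHom.mul_apply, Subgroup.coe_subtype,
        actK_zero] at hm ⊢
      rwa [mul_comm (S.tw l' _), mul_right_inj] at hm
    · rintro ⟨rfl, h⟩
      refine MonoidHom.ext fun m => ?_
      have hm := DFunLike.congr_fun h m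
      simp only [MonoidHom.comp_apply, Subgroup.coe_subtype] at hm
      simp only [gam, MonoidHom.comp_apply, MonoidHom.mul_apply, Subgroup.coe_subtype, actK_zero,
        hm]
      rw [mul_comm]
  rw [if_neg hb1, if_neg hg1, if_neg hb2]
  simp only [hg2]
  split_ifs <;> simp

open scoped Classical in
/-- the translates of the difference -/
theorem diff_diff [Finite G] (l : Λ) (c : Fin 3 × Fin 2) :
    classInner (fun k => S.diff η lam l (P.actK c k)) (S.diff η lam l) =
      if c = 0 then 1 + ((S.M η).index : ℂ) else 0 := by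
  haveI := S.M_normal η
  have hne : η ≠ S.res0 lam := fun h => hη (h ▸ S.M_res0 lam)
  have hne1 : η ≠ 1 := fun h => hη (h ▸ S.M_one)
  have hl1 : S.res0 lam ≠ 1 := S.res0_ne_one lam hlamFo (P.lam_one_ne hlam)
  have hrest : ∀ (φ φ' : ↥(S.M η) →* ℂˣ) (a a' : ↥S.T0 →* ℂˣ) (c : Fin 3 × Fin 2) (g : ↥P.K),
      (∀ t : ↥S.T0, φ ⟨t, S.T0_le_M η t.2⟩ = a t) → (∀ t : ↥S.T0, φ' ⟨t, S.T0_le_M η t.2⟩ = a' t) →
      φ.comp (twist (S.M η) (P.actK c) (S.actK_mem_M η c) g) = φ' → a.comp (S.move c g) = a' := by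
    intro φ φ' a a' c g ha ha' h
    refine MonoidHom.ext fun t => ?_
    have := DFunLike.congr_fun h ⟨t, S.T0_le_M η t.2⟩
    rw [MonoidHom.comp_apply, S.twist_T0, ha, ha'] at this
    exact this
  have hb := S.bet_T0 η l
  have hg := S.gam_T0 η lam l
  split_ifs with hc
  · subst hc
    simp only [actK_zero]
    have hid : ∀ g, twist (S.M η) (MonoidHom.id ↥P.K) (fun m hm => hm) g =
        twist (S.M η) (P.actK 0) (S.actK_mem_M η 0) g := fun g => MonoidHom.ext fun m =>
      Subtype.ext (by simp [actK_zero])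
    refine classInner_psi_self _ _ _ (fun g => ⟨fun h => ?_, fun hg => ?_⟩) (fun g => ?_)
      (fun g h => ?_) fun h => hne (MonoidHom.ext fun t => by rw [← hb, ← hg, h])
    · rw [hid] at h
      have h1 := hrest _ _ _ _ 0 g hb hb h
      suffices g⁻¹ ∈ S.M η by simpa using inv_mem this
      intro t
      rw [← DFunLike.congr_fun h1 t, MonoidHom.comp_apply]
      exact congrArg η (Subtype.ext (by simp [S.move_coe, actK_zero]))
    · refine MonoidHom.ext fun m => ?_
      have e : twist (S.M η) (MonoidHom.id ↥P.K) (fun m hm => hm) g m =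
          ⟨g, hg⟩⁻¹ * m * ⟨g, hg⟩ := Subtype.ext (by simp)
      rw [MonoidHom.comp_apply, e, map_mul, map_mul, map_inv, mul_comm _ (S.bet η l m),
        inv_mul_cancel_right]
    · refine MonoidHom.ext fun m => ?_
      simp only [gam, MonoidHom.comp_apply, Subgroup.coe_subtype, twist_coe, MonoidHom.id_apply,
        map_mul, map_inv]
      rw [mul_comm _ ((lam * S.tw l) (m : ↥P.K)), inv_mul_cancel_right]
    · rw [hid] at h
      exact (S.move_ne_res0 η lam hη 0 g).1 (hrest _ _ _ _ 0 g hb hg h)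
  · exact classInner_psi_translate_zero _ _ _ _ (S.actK_mem_M η c) fun g =>
      ⟨fun h => S.move_ne hne1 hc g (hrest _ _ _ _ c g hb hb h),
        fun h => (S.move_ne_res0 η lam hη c g).1 (hrest _ _ _ _ c g hb hg h),
        fun h => (S.move_ne_res0 η lam hη c g).2 (hrest _ _ _ _ c g hg hb h),
        fun h => S.move_ne hl1 hc g (hrest _ _ _ _ c g hg hg h)⟩

end Twists

end Cfsg.Agent.H40.WardE
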