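import Cfsg.Agent.H40.WardE.Lattice

/-!
The rows of the differences: norm `|K : M| + 1`, products with lattices and section rows, and their
vanishing at a row of a column orthogonal to them.
-/

set_option autoImplicit false
set_option linter.unusedSectionVars false
set_option linter.style.haveILetI false

namespace Cfsg.Agent.H40.WardE

open Subgroup Cfsg Cfsg.Agent Cfsg.Agent.CharBasic Cfsg.Agent.CharInduce Cfsg.Agent.H84.Ward
open Cfsg.Agent.H64.Ward (dot)
open scoped ComplexConjugate Classical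

universe u v w

variable {G : Type u} [Group G]

namespace Twists

variable {P : ExtPair G} {Λ : Type w} [Fintype Λ] (S : Twists P Λ) [Fintype G] [Fintype ↥P.K]

/-- `Ind_T^G(sg v ⊗ diff l)` -/
noncomputable def dind (v : ↥P.W) (η : ↥S.T0 →* ℂˣ) (lam : ↥P.K →* ℂˣ) (l : Λ) : G → ℂ :=
  P.indC (fun x => (P.sg v x : ℂ)) (S.diff η lam l)

theorem exists_ncoef (v : ↥P.W) (η : ↥S.T0 →* ℂˣ) (lam : ↥P.K →* ℂˣ) (l : Λ)
    (χ : IrrCharacter G) : ∃ n : ℤ, classInner (S.dind v η lam l) (χ : G → ℂ) = n :=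
  CharInduce.IsGen.exists_int_coeff (P.indC_isGen (P.sg v) (psi_isGen _ _ _))
    (IsIrr.isCharacter χ.2)

/-- the row of the difference -/
noncomputable def ncoef (v : ↥P.W) (η : ↥S.T0 →* ℂˣ) (lam : ↥P.K →* ℂˣ) (l : Λ)
    (χ : IrrCharacter G) : ℤ := (S.exists_ncoef v η lam l χ).choose

theorem ncoef_spec (v : ↥P.W) (η : ↥S.T0 →* ℂˣ) (lam : ↥P.K →* ℂˣ) (l : Λ)
    (χ : IrrCharacter G) :
    classInner (S.dind v η lam l) (χ : G → ℂ) = S.ncoef v η lam l χ :=
  (S.exists_ncoef v η lam l χ).choose_spec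

theorem dind_isClass (v : ↥P.W) (η : ↥S.T0 →* ℂˣ) (lam : ↥P.K →* ℂˣ) (l : Λ) :
    IsClassFunction G (S.dind v η lam l) := P.indC_isClass _ _

variable {lam : ↥P.K →* ℂˣ} (hlamFo : ∀ z ∈ S.Fo, lam z = 1) (hlam : P.Adapted lam)
  (η : ↥S.T0 →* ℂˣ) (hη : S.M η ≠ ⊤)
include hlamFo hlam hη

/-- the norm -/
theorem ncoef_gram (v : ↥P.W) (l : Λ) :
    dot (S.ncoef v η lam l) (S.ncoef v η lam l) = ((S.M η).index : ℤ) + 1 := by
  haveI : Fintype ↥P.W := Fintype.ofFinite _
  haveI := P.klein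
  refine sum_row_mul (S.dind_isClass v η lam l) (S.ncoef_spec v η lam l) (S.ncoef_spec v η lam l) ?_
  rw [dind, P.classInner_indC_indC hlam _ _ _ (fun k h => S.diff_class η lam l k h)
    (fun k hk => S.cent k (S.notMem_of_diff_ne η lam hlamFo hk))]
  simp only [S.diff_diff η hlamFo hlam hη l, mul_ite, mul_zero, Finset.sum_ite_eq',
    Finset.mem_univ, if_true]
  have h1 := P.classInner_sg v v
  rw [if_pos rfl, classInner_def, IsKleinFour.card_four] at h1
  have h0 : ∀ x : ↥P.W, P.actW 0 x = x := fun x => Subtype.ext (by simp [ExtPair.rep])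
  simp only [h0]
  push_cast at h1 ⊢
  rw [h1]
  ring

/-- the product with a lattice -/
theorem ncoef_lcoef (v v' : ↥P.W) (l l' : Λ) :
    dot (S.ncoef v η lam l) (P.lcoef v' (S.tw l') lam) =
      if v = v' ∧ S.Rel η l l' then 1 else 0 := by
  haveI : Fintype ↥P.W := Fintype.ofFinite _
  haveI := P.klein
  rw [H64.Ward.dot_comm]
  refine sum_row_mul (P.ind_isClass _ _ lam) (P.lcoef_spec v' _ lam) (S.ncoef_spec v η lam l) ?_
  rw [P.ind_eq_indC, dind, P.classInner_indC_indC hlam _ _ _ (fun k h => S.diff_class η lam l k h)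
    (fun k hk => S.cent k (S.notMem_of_diff_ne η lam hlamFo hk))]
  simp only [S.diff_ind η hlamFo hlam hη l l', mul_ite, mul_zero, mul_one]
  have h1 := P.classInner_sg v' v
  rw [classInner_def, IsKleinFour.card_four] at h1
  have h0 : ∀ x : ↥P.W, P.actW 0 x = x := fun x => Subtype.ext (by simp [ExtPair.rep])
  by_cases hr : S.Rel η l l'
  · simp only [hr, and_true, Finset.sum_ite_eq', Finset.mem_univ, if_true, h0]
    push_cast at h1 ⊢
    rw [h1]
    simp only [eq_comm (a := v')]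
  · simp [hr]

omit hη in
/-- the difference against a twist -/
theorem diff_tw (hη : S.M η ≠ ⊤) (l l' : Λ) :
    classInner (S.diff η lam l) (fun k => (S.tw l' k : ℂ)) = 0 := by
  have hne1 : η ≠ 1 := fun h => hη (h ▸ S.M_one)
  have hl1 : S.res0 lam ≠ 1 := S.res0_ne_one lam hlamFo (P.lam_one_ne hlam)
  rw [diff, classInner_psi_hom, if_neg, if_neg, sub_zero]
  · intro h
    refine hl1 (MonoidHom.ext fun t => ?_)
    rw [← S.gam_T0 η lam l t, h]
    simp [S.tw_T0 l' t t.2]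
  · intro h
    refine hne1 (MonoidHom.ext fun t => ?_)
    rw [← S.bet_T0 η l t, h]
    simp [S.tw_T0 l' t t.2]

variable {L : Type v} [Group L] {D : TData G L} [Fintype L]

/-- the product with a section row -/
theorem ncoef_F (v : ↥P.W) (l l' : Λ) {θ : L → ℂ} (h : VanEven θ) {x0 : ↥P.W}
    (hx0 : (x0 : G) = D.t) {ι : ↥P.K →* L} (hι : ∀ k : ↥P.K, D.emb (1, ι k) = (k : G))
    (hodd : ∀ k : ↥P.K, Odd (orderOf (ι k))) {c : ℂ}
    (hθ : ∀ k : ↥P.K, S.Off k → θ (ι k) = c * (S.tw l' k : ℂ)) :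
    dot (S.ncoef v η lam l) (fun χ => D.coef h χ) = 0 := by
  have hx1 : x0 ≠ 1 := fun e => D.t_ne_one (by rw [← hx0, e]; rfl)
  refine sum_row_mul (S.dind_isClass v η lam l) (S.ncoef_spec v η lam l) (D.coef_spec h) ?_
  rw [Int.cast_zero, dind, P.classInner_indC_split hlam _ _ (D.isClass_F θ) hx1
    (fun k _ => P.F_apply_K h k) (g := fun k => 2 * c * (S.tw l' k : ℂ))
    (fun k ⟨i, hi⟩ => by
      rw [← P.emb_section hx0 hι, D.F_emb h (hodd k),
        hθ k ⟨i, S.notMem_of_diff_ne η lam hlamFo hi⟩, mul_assoc])]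
  refine mul_eq_zero_of_right _ (Finset.sum_eq_zero fun i _ => mul_eq_zero_of_right _ ?_)
  have h0 := S.diff_tw hlamFo hlam η hη l l'
  rw [classInner_def] at h0
  have h1 : ∑ k : ↥P.K, S.diff η lam l k * conj (S.tw l' k : ℂ) = 0 :=
    (mul_eq_zero.1 h0).resolve_left (by simp)
  have hb : Function.Bijective (P.actK (i, 0)) :=
    ⟨P.actK_injective _, Finite.surjective_of_injective (P.actK_injective _)⟩
  have h2 : ∑ k : ↥P.K, S.diff η lam l (P.actK (i, 0) k) *
      conj (S.tw l' (P.actK (i, 0) k) : ℂ) = 0 := by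
    rw [Fintype.sum_bijective _ hb _ (fun k => S.diff η lam l k * conj (S.tw l' k : ℂ))
      fun k => rfl, h1]
  calc ∑ k : ↥P.K, S.diff η lam l (P.actK (i, 0) k) * conj (2 * c * (S.tw l' k : ℂ)) =
      conj (2 * c) * ∑ k : ↥P.K, S.diff η lam l (P.actK (i, 0) k) *
        conj (S.tw l' (P.actK (i, 0) k) : ℂ) := by
        rw [Finset.mul_sum]
        refine Finset.sum_congr rfl fun k _ => ?_
        have e := DFunLike.congr_fun (S.tw_fixed l' (i, 0)) k
        simp only [MonoidHom.comp_apply] at e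
        rw [e, map_mul]
        ring
    _ = 0 := by rw [h2, mul_zero]

omit [Fintype L] in
/-- **Vanishing.** At a row of a column orthogonal to the difference, with witnesses off that
column. -/
theorem ncoef_eq_zero (v : ↥P.W) (l : Λ) (Z : Λ → IrrCharacter G → ℤ)
    (hZ : ∀ l', dot (Z l') (Z l') = 2)
    (hZd : ∀ l', dot (Z l') (fun χ => (charDegree (χ : G → ℂ) : ℤ)) = 0)
    (hZo : ∀ l₁ l₂, l₁ ≠ l₂ → dot (Z l₁) (Z l₂) = 0)
    (hRZ : ∀ l', S.Rel η l l' → dot (S.ncoef v η lam l) (Z l') ≠ 0)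
    (a : IrrCharacter G → ℤ) (haZ : ∀ l' χ, a χ ≠ 0 → Z l' χ = 0)
    (hRa : dot (S.ncoef v η lam l) a = 0) {χ : IrrCharacter G} (hχ : a χ ≠ 0) :
    S.ncoef v η lam l χ = 0 := by
  refine eq_zero_of_slack (D := {l' : Λ // (S.tw l').comp (S.M η).subtype =
      (S.tw l).comp (S.M η).subtype}) (Z := fun l' => Z l'.1) ?_ (fun l' => hRZ _ l'.2.symm) ?_
    (fun l' => haZ l'.1) hRa χ hχ
  · have hc := S.rel_card _ (S.T0_le_M η) l
    rw [← @Nat.card_eq_fintype_card _ (_)] at hc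
    rw [← @Nat.card_eq_fintype_card _ (_), hc, S.ncoef_gram hlamFo hlam η hη v l]
  · intro l₁ l₂ x h1 h2
    by_contra hne
    exact h2 (disjoint_of_norm_two (d := fun χ : IrrCharacter G => (charDegree (χ : G → ℂ) : ℤ))
      (fun χ => by exact_mod_cast (H83.charDegree_eq χ.2).2) (hZ _) (hZ _) (hZd _) (hZd _)
      (hZo _ _ fun e => hne (Subtype.ext e)) x h1)

end Twists

end Cfsg.Agent.H40.WardE
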