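import Cfsg.Agent.H40.WardE.ExtPair
import Cfsg.Agent.H83.ClassConst

/-!
The functions `Ind_T^G(s ⊗ μ (1 - lam))` of an extended torus: values on `T`, inner products with each
other and with class functions, and the involution-pair functional.
-/

set_option autoImplicit false
set_option linter.unusedSectionVars false
set_option linter.style.haveILetI false

namespace Cfsg.Agent.H40.WardE

open Subgroup Cfsg Cfsg.Agent Cfsg.Agent.CharBasic Cfsg.Agent.CharInduce
open scoped ComplexConjugate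

universe u

variable {G : Type u} [Group G]

namespace ExtPair

variable (P : ExtPair G)

/-- `s ⊗ μ (1 - lam)` -/
noncomputable def phi (s : ↥P.W → ℂ) (μ lam : ↥P.K →* ℂˣ) (a : ↥P.T) : ℂ :=
  s (P.equiv.symm a).1 * ((μ (P.equiv.symm a).2 : ℂ) * (1 - (lam (P.equiv.symm a).2 : ℂ)))

theorem phi_equiv (s : ↥P.W → ℂ) (μ lam : ↥P.K →* ℂˣ) (x : ↥P.W) (k : ↥P.K) :
    P.phi s μ lam (P.equiv (x, k)) = s x * ((μ k : ℂ) * (1 - (lam k : ℂ))) := by
  simp [phi]

/-- `Ind_T^G(s ⊗ μ (1 - lam))` -/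
noncomputable def ind [Fintype G] (s : ↥P.W → ℂ) (μ lam : ↥P.K →* ℂˣ) : G → ℂ :=
  indFun P.T (P.phi s μ lam)

/-- the function of norm three -/
noncomputable def H [Fintype G] (v : ↥P.W) (μ lam : ↥P.K →* ℂˣ) : G → ℂ :=
  P.ind (P.sgn v) μ lam

/-- the function of norm seven -/
noncomputable def U [Fintype G] (μ lam : ↥P.K →* ℂˣ) : G → ℂ := P.ind (fun _ => 1) μ lam

theorem ind_isClass [Fintype G] (s : ↥P.W → ℂ) (μ lam : ↥P.K →* ℂˣ) :
    IsClassFunction G (P.ind s μ lam) := isClassFunction_indFun _ _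

theorem ind_isGen [Fintype G] (s : ↥P.W →* ℂˣ) (μ lam : ↥P.K →* ℂˣ) :
    IsGeneralizedCharacter G (P.ind (fun x => (s x : ℂ)) μ lam) := by
  haveI : Fintype ↥P.T := Fintype.ofFinite _
  refine IsGen.ind P.T ?_
  let a : ↥P.T →* ℂˣ :=
    ((s.comp (MonoidHom.fst _ _)) * (μ.comp (MonoidHom.snd _ _))).comp P.equiv.symm.toMonoidHom
  let b : ↥P.T →* ℂˣ := ((s.comp (MonoidHom.fst _ _)) * ((μ * lam).comp (MonoidHom.snd _ _))).comp
    P.equiv.symm.toMonoidHom
  have e : P.phi (fun x => (s x : ℂ)) μ lam = (fun g => (a g : ℂ)) - fun g => (b g : ℂ) := by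
    funext g
    simp [phi, a, b]
    ring
  rw [e]
  exact ⟨_, _, isCharacter_hom a, isCharacter_hom b, rfl⟩

theorem H_isGen [Fintype G] {v : ↥P.W} (hv : v ≠ 1) (μ lam : ↥P.K →* ℂˣ) :
    IsGeneralizedCharacter G (P.H v μ lam) := by
  let s : ↥P.W →* ℂˣ :=
    { toFun := fun x => Units.mk0 (P.sgn v x) (by unfold sgn; split_ifs <;> simp)
      map_one' := Units.ext (P.sgn_one v)
      map_mul' := fun x y => Units.ext (P.sgn_mul v x y hv) }
  exact P.ind_isGen s μ lam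

theorem U_isGen [Fintype G] (μ lam : ↥P.K →* ℂˣ) : IsGeneralizedCharacter G (P.U μ lam) := by
  have h := P.ind_isGen 1 μ lam
  simpa [U] using h

theorem ind_one [Fintype G] (s : ↥P.W → ℂ) (μ lam : ↥P.K →* ℂˣ) : P.ind s μ lam 1 = 0 := by
  rw [ind, indFun_one, phi, map_one]
  simp

/-- elements of two-power order are zeros -/
theorem ind_two [Fintype G] (s : ↥P.W → ℂ) (μ lam : ↥P.K →* ℂˣ) {g : G} {n : ℕ}
    (hg : g ^ 2 ^ n = 1) : P.ind s μ lam g = 0 := by
  rw [ind, indFun_apply, Finset.sum_eq_zero, mul_zero]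
  intro y _
  by_cases hy : y⁻¹ * g * y ∈ P.T
  · obtain ⟨⟨x, k⟩, he⟩ := P.equiv.surjective ⟨_, hy⟩
    have he' : (x : G) * k = y⁻¹ * g * y := congrArg Subtype.val he
    have h1 := congrArg (· ^ 2 ^ (n + 1)) he'
    simp only [(P.comm x x.2 k k.2).mul_pow] at h1
    rw [show (x : G) ^ 2 ^ (n + 1) = 1 by
        rw [pow_succ', pow_mul, pow_two, P.mul_self x.2, one_pow], one_mul,
      show y⁻¹ * g * y = y⁻¹ * g * (y⁻¹)⁻¹ by simp, conj_pow,
      show g ^ 2 ^ (n + 1) = 1 by rw [pow_succ 2 n, pow_mul, hg, one_pow],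
      mul_one, mul_inv_cancel] at h1
    have hk : k = 1 := Subtype.ext (orderOf_eq_one_iff.1 (Nat.eq_one_of_dvd_coprimes
      (Nat.Coprime.pow_left (n + 1) (Nat.coprime_two_left.2 P.odd)) (orderOf_dvd_of_pow_eq_one h1)
      (Subgroup.orderOf_dvd_natCard _ k.2)))
    rw [extendByZero_of_mem _ hy, ← he, P.phi_equiv, hk, map_one, map_one, Units.val_one, sub_self,
      mul_zero, mul_zero]
  · exact extendByZero_of_not_mem _ hy

/-- Frobenius reciprocity -/
theorem classInner_ind [Fintype G] [Fintype ↥P.W] [Fintype ↥P.K] (s : ↥P.W → ℂ)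
    (μ lam : ↥P.K →* ℂˣ) {f : G → ℂ} (hf : IsClassFunction G f) :
    classInner (P.ind s μ lam) f = ((4 : ℂ) * Nat.card ↥P.K)⁻¹ *
      ∑ x : ↥P.W, ∑ k : ↥P.K, s x * ((μ k : ℂ) * (1 - (lam k : ℂ))) * conj (f ((x : G) * k)) := by
  haveI : Fintype ↥P.T := Fintype.ofFinite _
  haveI := P.klein
  rw [ind, classInner_indFun_left _ _ _ hf, ← classInner_comp_mulEquiv P.equiv, classInner_def,
    Nat.card_prod, IsKleinFour.card_four, Fintype.sum_prod_type]
  push_cast
  simp only [phi_equiv, equiv_coe]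

theorem hom_mul_inv_eq_one_iff {μ ν : ↥P.K →* ℂˣ} : μ * ν⁻¹ = 1 ↔ μ = ν := by
  simp [MonoidHom.ext_iff, mul_inv_eq_one]

theorem hom_mul_eq_one_iff {μ ν : ↥P.K →* ℂˣ} : μ * ν = 1 ↔ μ = ν⁻¹ := by
  simp [MonoidHom.ext_iff, mul_eq_one_iff_eq_inv]

/-- a character of `K` fixed by the six representatives -/
def Fixed (μ : ↥P.K →* ℂˣ) : Prop := ∀ c, μ.comp (P.actK c) = μ

theorem fixed_one : P.Fixed 1 := fun _ => MonoidHom.ext fun _ => rfl

theorem fixed_mul_inv {μ μ' : ↥P.K →* ℂˣ} (h : P.Fixed μ) (h' : P.Fixed μ') :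
    P.Fixed (μ' * μ⁻¹) := fun c => MonoidHom.ext fun k => by
  have e1 := DFunLike.congr_fun (h c) k
  have e2 := DFunLike.congr_fun (h' c) k
  simp only [MonoidHom.comp_apply] at e1 e2
  simp [e1, e2]

variable {lam : ↥P.K →* ℂˣ} (hlam : P.Adapted lam)
include hlam

/-- an invariant character is not in the orbit of `lam` -/
theorem fixed_ne_act [Finite G] {ν : ↥P.K →* ℂˣ} (hν : P.Fixed ν) (c : Fin 3 × Fin 2) :
    lam.comp (P.actK c) ≠ ν := by
  intro h
  have hl : lam = ν := MonoidHom.ext fun k => by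
    obtain ⟨k', rfl⟩ := Finite.surjective_of_injective (P.actK_injective c) k
    have e1 := DFunLike.congr_fun h k'
    have e2 := DFunLike.congr_fun (hν c) k'
    simp only [MonoidHom.comp_apply] at e1 e2
    rw [e1, e2]
  obtain ⟨k, hk⟩ := hlam.move
  refine hk ?_
  have e : (⟨P.w * k * P.w⁻¹, P.w_K k k.2⟩ : ↥P.K) = P.actK (1, 0) k :=
    Subtype.ext (by simp [rep])
  rw [e, hl]
  exact DFunLike.congr_fun (hν (1, 0)) k

variable [Fintype G]

/-- values on `T` -/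
theorem ind_apply_actT (ψ : ↥P.T → ℂ) (hcl : ∀ a b : ↥P.T, ψ (b * a * b⁻¹) = ψ a)
    (hψ : ∀ a, lam (P.equiv.symm a).2 = 1 → ψ a = 0) (a : ↥P.T) :
    indFun P.T ψ (a : G) = ∑ c : Fin 3 × Fin 2,
      extendByZero P.T ψ ((P.rep c)⁻¹ * a * P.rep c) := by
  classical
  haveI : Fintype ↥P.T := Fintype.ofFinite _
  rw [indFun_apply]
  set f : G → ℂ := fun g => extendByZero P.T ψ (g⁻¹ * a * g) with hf
  have hsum : ∑ g : G, f g = ∑ p : (Fin 3 × Fin 2) × ↥P.T, f (P.rep p.1 * p.2) := by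
    have himg := Finset.sum_image (s := (Finset.univ : Finset ((Fin 3 × Fin 2) × ↥P.T)))
      (f := f) (g := fun p => P.rep p.1 * p.2) fun p _ p' _ h => P.rep_inj hlam h
    rw [← himg]
    refine (Finset.sum_subset (Finset.subset_univ _) fun g _ hg => ?_).symm
    by_contra hne
    have hmem : g⁻¹ * a * g ∈ P.T := by
      by_contra h
      exact hne (extendByZero_of_not_mem _ h)
    have hl : lam (P.equiv.symm ⟨_, hmem⟩).2 ≠ 1 := fun e => hne (by
      simp only [hf]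
      rw [extendByZero_of_mem _ hmem, hψ _ e])
    obtain ⟨c, τ, hg'⟩ := P.exists_rep hlam a.2 hmem hl
    exact hg (Finset.mem_image.2 ⟨(c, τ), Finset.mem_univ _, hg'.symm⟩)
  rw [hsum, Fintype.sum_prod_type, Finset.mul_sum]
  refine Finset.sum_congr rfl fun c _ => ?_
  have hconst : ∀ τ : ↥P.T, f (P.rep c * τ) =
      extendByZero P.T ψ ((P.rep c)⁻¹ * a * P.rep c) := by
    intro τ
    obtain ⟨b, hb⟩ := Finite.surjective_of_injective (P.actT_injective c) a
    have hb' : P.rep c * b * (P.rep c)⁻¹ = (a : G) := congrArg Subtype.val hb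
    simp only [hf]
    rw [← hb', show (P.rep c * τ)⁻¹ * (P.rep c * b * (P.rep c)⁻¹) * (P.rep c * τ) =
        ((τ⁻¹ * b * τ : ↥P.T) : G) by simp only [Subgroup.coe_mul, InvMemClass.coe_inv]; group,
      show (P.rep c)⁻¹ * (P.rep c * b * (P.rep c)⁻¹) * P.rep c = (b : G) by group,
      extendByZero_coe, extendByZero_coe]
    simpa using hcl b τ⁻¹
  rw [Finset.sum_congr rfl fun τ _ => hconst τ, Finset.sum_const, Finset.card_univ,
    ← Nat.card_eq_fintype_card, nsmul_eq_mul, ← mul_assoc, inv_mul_cancel₀ (by simp), one_mul]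

omit hlam in
theorem phi_class (s : ↥P.W → ℂ) (μ lam : ↥P.K →* ℂˣ) (a b : ↥P.T) :
    P.phi s μ lam (b * a * b⁻¹) = P.phi s μ lam a := by
  obtain ⟨⟨x, k⟩, rfl⟩ := P.equiv.surjective a
  obtain ⟨⟨y, l⟩, rfl⟩ := P.equiv.surjective b
  haveI := P.klein
  haveI : IsMulCommutative ↥P.W := IsKleinFour.isMulCommutative
  rw [← map_inv, ← map_mul, ← map_mul, Prod.inv_mk, Prod.mk_mul_mk, Prod.mk_mul_mk, P.phi_equiv,
    P.phi_equiv, map_mul, map_mul, map_inv, map_mul, map_mul, map_inv, mul_comm (μ l),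
    mul_inv_cancel_right, mul_comm (lam l), mul_inv_cancel_right,
    show y * x * y⁻¹ = x by rw [mul_comm' (a := y), mul_inv_cancel_right]]

/-- inner products of two induced functions with fixed twists -/
theorem classInner_ind_ind [Fintype ↥P.W] {μ μ' : ↥P.K →* ℂˣ} (hμ : P.Fixed μ)
    (hμ' : P.Fixed μ') (s s' : ↥P.W → ℂ)
    (hsep : ∀ c : Fin 3 × Fin 2, lam.comp (P.actK c) * lam⁻¹ = μ' * μ⁻¹ → c = 0) :
    classInner (P.ind s μ lam) (P.ind s' μ' lam) = open Classical in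
      if μ = μ' then (4 : ℂ)⁻¹ * ((∑ c : Fin 3 × Fin 2, ∑ x : ↥P.W, s (P.actW c x) * conj (s' x)) +
        ∑ x : ↥P.W, s x * conj (s' x)) else 0 := by
  classical
  haveI : Fintype ↥P.T := Fintype.ofFinite _
  haveI : Fintype ↥P.K := Fintype.ofFinite _
  haveI := P.klein
  rw [ind, ind, classInner_indFun_left _ _ _ (isClassFunction_indFun _ _)]
  have hterm : classInner (P.phi s μ lam) (fun a : ↥P.T => indFun P.T (P.phi s' μ' lam) (a : G)) =
      ∑ c : Fin 3 × Fin 2,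
        classInner (fun b => P.phi s μ lam (P.actT c b)) (P.phi s' μ' lam) := by
    have hH : ∀ a : ↥P.T, indFun P.T (P.phi s' μ' lam) (a : G) = ∑ c : Fin 3 × Fin 2,
        extendByZero P.T (P.phi s' μ' lam) ((P.rep c)⁻¹ * a * P.rep c) := fun a =>
      P.ind_apply_actT hlam _ (P.phi_class s' μ' lam) (fun b e => by simp [phi, e]) a
    simp only [classInner_def, hH, map_sum, Finset.mul_sum]
    rw [Finset.sum_comm]
    refine Finset.sum_congr rfl fun c _ => ?_
    have hb : Function.Bijective (P.actT c) :=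
      ⟨P.actT_injective c, Finite.surjective_of_injective (P.actT_injective c)⟩
    refine (Fintype.sum_bijective _ hb _ _ fun b => ?_).symm
    congr 3
    rw [show (P.rep c)⁻¹ * (P.actT c b : G) * P.rep c = (b : G) by simp [actT]; group,
      extendByZero_coe]
  rw [hterm]
  have hk : (Nat.card ↥P.K : ℂ) ≠ 0 := by simp
  have hν := P.fixed_mul_inv hμ hμ'
  have hν' := P.fixed_mul_inv hμ' hμ
  have hid : lam.comp (P.actK 0) = lam :=
    MonoidHom.ext fun k => congrArg lam (Subtype.ext (by simp [rep]))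
  have hone : ∀ c : Fin 3 × Fin 2,
      classInner (fun b => P.phi s μ lam (P.actT c b)) (P.phi s' μ' lam) =
        (4 : ℂ)⁻¹ * (∑ x : ↥P.W, s (P.actW c x) * conj (s' x)) *
          ((if μ = μ' then 1 else 0) + if c = 0 ∧ μ = μ' then 1 else 0) := by
    intro c
    rw [← classInner_comp_mulEquiv P.equiv]
    have e1 : (fun y : ↥P.W × ↥P.K => P.phi s μ lam (P.actT c (P.equiv y))) =
        fun y => s (P.actW c y.1) * ((μ y.2 : ℂ) * (1 - (lam (P.actK c y.2) : ℂ))) := by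
      funext y
      have e := DFunLike.congr_fun (hμ c) y.2
      simp only [MonoidHom.comp_apply] at e
      rw [P.actT_equiv c y.1 y.2, P.phi_equiv, e]
    have e2 : (fun y : ↥P.W × ↥P.K => P.phi s' μ' lam (P.equiv y)) =
        fun y => s' y.1 * ((μ' y.2 : ℂ) * (1 - (lam y.2 : ℂ))) :=
      funext fun y => P.phi_equiv s' μ' lam y.1 y.2
    rw [e1, e2, classInner_outer (fun x => s (P.actW c x)) s'
      (fun k => (μ k : ℂ) * (1 - (lam (P.actK c k) : ℂ)))
      (fun k => (μ' k : ℂ) * (1 - (lam k : ℂ))), classInner_def, classInner_def,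
      IsKleinFour.card_four]
    congr 1
    set ρ : ↥P.K →* ℂˣ := lam.comp (P.actK c) with hρ
    rw [Finset.sum_congr rfl fun k _ =>
      show (μ k : ℂ) * (1 - (lam (P.actK c k) : ℂ)) * conj ((μ' k : ℂ) * (1 - (lam k : ℂ))) =
        ((μ * μ'⁻¹ : ↥P.K →* ℂˣ) k : ℂ) - ((ρ * (μ' * μ⁻¹)⁻¹ : ↥P.K →* ℂˣ) k : ℂ) -
          (((μ * μ'⁻¹) * lam⁻¹ : ↥P.K →* ℂˣ) k : ℂ) +
          (((ρ * lam⁻¹) * (μ' * μ⁻¹)⁻¹ : ↥P.K →* ℂˣ) k : ℂ) by
        have hn := norm_hom lam k
        have hmul : (lam k : ℂ) * conj (lam k : ℂ) = 1 := by rw [Complex.mul_conj', hn]; norm_num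
        have hinv : conj (lam k : ℂ) = ((lam k : ℂ))⁻¹ := eq_inv_of_mul_eq_one_right hmul
        have hn' := norm_hom μ' k
        have hmul' : (μ' k : ℂ) * conj (μ' k : ℂ) = 1 := by rw [Complex.mul_conj', hn']; norm_num
        have hinv' : conj (μ' k : ℂ) = ((μ' k : ℂ))⁻¹ := eq_inv_of_mul_eq_one_right hmul'
        simp only [map_sub, map_one, map_mul, hinv, hinv', MonoidHom.inv_apply,
          MonoidHom.mul_apply, Units.val_mul, Units.val_inv_eq_inv_val, mul_inv_rev, inv_inv, hρ,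
          MonoidHom.comp_apply]
        ring]
    rw [Finset.sum_add_distrib, Finset.sum_sub_distrib, Finset.sum_sub_distrib,
      P.sum_hom (μ * μ'⁻¹), P.sum_hom (ρ * (μ' * μ⁻¹)⁻¹), P.sum_hom ((μ * μ'⁻¹) * lam⁻¹),
      P.sum_hom ((ρ * lam⁻¹) * (μ' * μ⁻¹)⁻¹),
      if_neg (fun e => P.fixed_ne_act hlam hν c (P.hom_mul_inv_eq_one_iff.1 e)),
      if_neg (fun e => P.fixed_ne_act hlam hν' 0 (hid.trans (P.hom_mul_inv_eq_one_iff.1 e).symm))]
    have h1 : μ * μ'⁻¹ = 1 ↔ μ = μ' := P.hom_mul_inv_eq_one_iff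
    have h2 : ρ * lam⁻¹ * (μ' * μ⁻¹)⁻¹ = 1 ↔ c = 0 ∧ μ = μ' := by
      rw [P.hom_mul_inv_eq_one_iff]
      constructor
      · intro h
        obtain rfl := hsep c h
        refine ⟨rfl, MonoidHom.ext fun k => ?_⟩
        have hk' := DFunLike.congr_fun h k
        simp only [hρ, hid, MonoidHom.mul_apply, MonoidHom.inv_apply, mul_inv_cancel] at hk'
        exact (mul_inv_eq_one.1 hk'.symm).symm
      · rintro ⟨rfl, rfl⟩
        refine MonoidHom.ext fun k => ?_
        simp [hρ, hid]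
    simp only [h1, h2]
    split_ifs <;> field_simp <;> ring
  rw [Finset.sum_congr rfl fun c _ => hone c]
  by_cases hμμ : μ = μ'
  · simp only [hμμ, and_true, if_true, mul_add, mul_one, mul_ite, mul_zero, Finset.sum_add_distrib,
      Finset.sum_ite_eq', Finset.mem_univ, ← Finset.mul_sum]
    congr 1
    refine congrArg _ (Finset.sum_congr rfl fun x _ => ?_)
    rw [show P.actW 0 x = x from Subtype.ext (by simp [rep])]
  · simp [hμμ]

omit [Fintype G] in
theorem lam_act_eq_zero [Finite G] (c : Fin 3 × Fin 2) (h : lam.comp (P.actK c) = lam) :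
    c = 0 := by
  obtain ⟨i, j⟩ := c
  fin_cases j
  · exact Prod.ext ((P.lam_w_ne hlam i).1.1 h) rfl
  · refine absurd (MonoidHom.ext fun k => ?_) (P.lam_w_ne hlam i).2
    have hk := DFunLike.congr_fun h k
    simp only [Fin.mk_one, MonoidHom.comp_apply, P.lam_act_one hlam] at hk
    simp [← hk]

/-- separation holds for equal twists -/
theorem sep_self (μ : ↥P.K →* ℂˣ) (c : Fin 3 × Fin 2)
    (h : lam.comp (P.actK c) * lam⁻¹ = μ * μ⁻¹) : c = 0 := by
  refine P.lam_act_eq_zero hlam c (P.hom_mul_inv_eq_one_iff.1 (h.trans ?_))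
  exact MonoidHom.ext fun k => by simp

omit [Fintype G] in
theorem sum_W [Finite G] [Fintype ↥P.W] {x0 : ↥P.W} (hx0 : x0 ≠ 1) (F : ↥P.W → ℂ) :
    ∑ x : ↥P.W, F x = F 1 + ∑ i : Fin 3, F (P.actW (i, 0) x0) := by
  classical
  haveI := P.klein
  have hinj := P.orbit_injective hlam hx0
  have hnm : (1 : ↥P.W) ∉ Finset.univ.image fun i : Fin 3 => P.actW (i, 0) x0 := by
    simp only [Finset.mem_image, Finset.mem_univ, true_and, not_exists]
    exact fun i h => hx0 (P.actW_injective (i, 0) (h.trans (map_one _).symm))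
  have huniv : (Finset.univ : Finset ↥P.W) =
      insert 1 (Finset.univ.image fun i : Fin 3 => P.actW (i, 0) x0) := by
    refine (Finset.eq_univ_of_card _ ?_).symm
    rw [Finset.card_insert_of_notMem hnm, Finset.card_image_of_injective _ hinj, Finset.card_univ,
      Fintype.card_fin, ← Nat.card_eq_fintype_card, IsKleinFour.card_four]
  rw [huniv, Finset.sum_insert hnm, Finset.sum_image fun a _ b _ h => hinj h]

omit [Fintype G] in
theorem sum_sgn_orbit [Finite G] {v x0 : ↥P.W} (hv : v ≠ 1) (hx0 : x0 ≠ 1) :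
    ∑ i : Fin 3, P.sgn v (P.actW (i, 0) x0) = -1 := by
  haveI : Fintype ↥P.W := Fintype.ofFinite _
  have h := P.sum_W hlam hx0 (P.sgn v)
  rw [P.sum_sgn hv, P.sgn_one] at h
  linear_combination -h

theorem sum_sgn_act [Fintype ↥P.W] {v v' : ↥P.W} (hv : v ≠ 1) (hv' : v' ≠ 1) :
    (∑ c : Fin 3 × Fin 2, ∑ x : ↥P.W, P.sgn v (P.actW c x) * conj (P.sgn v' x)) = 8 := by
  classical
  have hsgn : ∀ (c : Fin 3 × Fin 2) (z x : ↥P.W),
      P.sgn (P.actW c z) (P.actW c x) = P.sgn z x := fun c z x => by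
    simp only [sgn, map_eq_one_iff _ (P.actW_injective c), (P.actW_injective c).eq_iff]
  choose V hV using fun c => Finite.surjective_of_injective (P.actW_injective c) v
  have hVne : ∀ c, V c ≠ 1 := fun c h => hv (by rw [← hV c, h, map_one])
  have hone : ∀ c, ∑ x : ↥P.W, P.sgn v (P.actW c x) * conj (P.sgn v' x) =
      if V c = v' then (4 : ℂ) else 0 := fun c => by
    rw [← P.sum_sgn_mul (hVne c) hv']
    refine Finset.sum_congr rfl fun x _ => ?_
    rw [P.sgn_conj, ← hV c, hsgn]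
  have hV0 : ∀ i j, V (i, j) = V (i, 0) := fun i j => P.actW_injective (i, 0) (by
    rw [← P.actW_snd i j, hV, hV])
  -- exactly one translate of `v'` is `v`
  obtain ⟨i0, hi0⟩ : ∃ i : Fin 3, P.actW (i, 0) v' = v := by
    haveI := P.klein
    by_contra hc
    push Not at hc
    have h := P.sum_W hlam hv' (fun x => if x = v then (1 : ℂ) else 0)
    simp [hc, hv.symm] at h
  have hiff : ∀ i, V (i, 0) = v' ↔ i = i0 := fun i => by
    refine ⟨fun h => P.orbit_injective hlam hv' ?_, fun h => ?_⟩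
    · show P.actW (i, 0) v' = P.actW (i0, 0) v'
      rw [hi0, ← h, hV]
    · subst h
      exact P.actW_injective (i, 0) (by rw [hV, hi0])
  rw [Finset.sum_congr rfl fun c _ => hone c, Fintype.sum_prod_type]
  simp [Fin.sum_univ_two, hV0, hiff, Finset.sum_add_distrib]
  norm_num

/-- the Gram matrix of the `H v` -/
theorem classInner_H_H {μ : ↥P.K →* ℂˣ} (hμ : P.Fixed μ) {v v' : ↥P.W} (hv : v ≠ 1) (hv' : v' ≠ 1) :
    classInner (P.H v μ lam) (P.H v' μ lam) = open Classical in if v = v' then 3 else 2 := by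
  classical
  haveI : Fintype ↥P.W := Fintype.ofFinite _
  rw [H, H, P.classInner_ind_ind hlam hμ hμ _ _ (P.sep_self hlam μ), if_pos rfl,
    P.sum_sgn_act hlam hv hv']
  simp only [P.sgn_conj, P.sum_sgn_mul hv hv']
  split_ifs <;> norm_num

theorem classInner_U_U {μ : ↥P.K →* ℂˣ} (hμ : P.Fixed μ) :
    classInner (P.U μ lam) (P.U μ lam) = 7 := by
  classical
  haveI : Fintype ↥P.W := Fintype.ofFinite _
  haveI := P.klein
  rw [U, P.classInner_ind_ind hlam hμ hμ _ _ (P.sep_self hlam μ), if_pos rfl]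
  simp [← Nat.card_eq_fintype_card, IsKleinFour.card_four]
  norm_num

theorem classInner_U_H {μ : ↥P.K →* ℂˣ} (hμ : P.Fixed μ) {v : ↥P.W} (hv : v ≠ 1) :
    classInner (P.U μ lam) (P.H v μ lam) = 0 := by
  classical
  haveI : Fintype ↥P.W := Fintype.ofFinite _
  rw [U, H, P.classInner_ind_ind hlam hμ hμ _ _ (P.sep_self hlam μ), if_pos rfl]
  simp [P.sgn_conj, P.sum_sgn hv]

/-- inner products with a class function vanishing on `K`, read on one coset `x0 K` -/
theorem classInner_ind_split [Fintype ↥P.K] (s : ↥P.W → ℂ) {μ : ↥P.K →* ℂˣ} (hμ : P.Fixed μ)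
    {f : G → ℂ} (hf : IsClassFunction G f) {x0 : ↥P.W} (hx0 : x0 ≠ 1)
    (h0 : ∀ k : ↥P.K, lam k ≠ 1 → f (k : G) = 0) {g : ↥P.K → ℂ}
    (hg : ∀ k : ↥P.K, (∃ i : Fin 3, lam (P.actK (i, 0) k) ≠ 1) → f ((x0 : G) * k) = g k) :
    classInner (P.ind s μ lam) f = ((4 : ℂ) * Nat.card ↥P.K)⁻¹ *
      ∑ i : Fin 3, s (P.actW (i, 0) x0) *
        ∑ k : ↥P.K, (μ k : ℂ) * (1 - (lam (P.actK (i, 0) k) : ℂ)) * conj (g k) := by
  haveI : Fintype ↥P.W := Fintype.ofFinite _
  rw [P.classInner_ind s μ lam hf, P.sum_W hlam hx0]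
  have h1 : ∀ k : ↥P.K, s 1 * ((μ k : ℂ) * (1 - (lam k : ℂ))) *
      conj (f (((1 : ↥P.W) : G) * k)) = 0 := fun k => by
    by_cases hk : lam k = 1
    · simp [hk]
    · simp [h0 k hk]
  rw [Finset.sum_eq_zero fun k _ => h1 k, zero_add]
  congr 1
  refine Finset.sum_congr rfl fun i _ => ?_
  rw [Finset.mul_sum]
  have hb : Function.Bijective (P.actK (i, 0)) :=
    ⟨P.actK_injective _, Finite.surjective_of_injective (P.actK_injective _)⟩
  refine (Fintype.sum_bijective _ hb _ _ fun k => ?_).symm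
  have e := DFunLike.congr_fun (hμ (i, 0)) k
  simp only [MonoidHom.comp_apply] at e
  by_cases hk : lam (P.actK (i, 0) k) = 1
  · simp [hk]
  · have hconj : f ((P.actW (i, 0) x0 : G) * (P.actK (i, 0) k : G)) = g k := by
      rw [← hg k ⟨i, hk⟩, ← hf ((x0 : G) * k) (P.rep (i, 0)), actW_coe, actK_coe]
      congr 1
      group
    rw [hconj, e]
    ring

/-- class functions equal to `c μ` on the coset, off the common kernel -/
theorem classInner_ind_const (s : ↥P.W → ℂ) {μ : ↥P.K →* ℂˣ} (hμ : P.Fixed μ)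
    {f : G → ℂ} (hf : IsClassFunction G f) {x0 : ↥P.W} (hx0 : x0 ≠ 1)
    (h0 : ∀ k : ↥P.K, lam k ≠ 1 → f (k : G) = 0) {c : ℂ}
    (hg : ∀ k : ↥P.K, (∃ i : Fin 3, lam (P.actK (i, 0) k) ≠ 1) →
      f ((x0 : G) * k) = c * (μ k : ℂ)) :
    classInner (P.ind s μ lam) f = conj c / 4 * ∑ i : Fin 3, s (P.actW (i, 0) x0) := by
  classical
  haveI : Fintype ↥P.K := Fintype.ofFinite _
  rw [P.classInner_ind_split hlam s hμ hf hx0 h0 (g := fun k => c * (μ k : ℂ)) hg]
  have hsum : ∀ i : Fin 3, ∑ k : ↥P.K,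
      (μ k : ℂ) * (1 - (lam (P.actK (i, 0) k) : ℂ)) * conj (c * (μ k : ℂ)) =
      (Nat.card ↥P.K : ℂ) * conj c := by
    intro i
    have h := P.sum_hom (lam.comp (P.actK (i, 0)))
    rw [if_neg (P.fixed_ne_act hlam P.fixed_one (i, 0))] at h
    simp only [MonoidHom.comp_apply] at h
    rw [Finset.sum_congr rfl fun k _ =>
      show (μ k : ℂ) * (1 - (lam (P.actK (i, 0) k) : ℂ)) * conj (c * (μ k : ℂ)) =
        (1 - (lam (P.actK (i, 0) k) : ℂ)) * conj c by
        have hn := norm_hom μ k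
        have hmul : (μ k : ℂ) * conj (μ k : ℂ) = 1 := by rw [Complex.mul_conj', hn]; norm_num
        rw [map_mul]
        linear_combination ((1 - (lam (P.actK (i, 0) k) : ℂ)) * conj c) * hmul]
    rw [← Finset.sum_mul, Finset.sum_sub_distrib, h, Finset.sum_const, Finset.card_univ,
      ← Nat.card_eq_fintype_card, nsmul_eq_mul, sub_zero, mul_one]
  simp only [hsum, ← Finset.sum_mul]
  have hk : (Nat.card ↥P.K : ℂ) ≠ 0 := by simp
  field_simp

theorem classInner_H_const {v : ↥P.W} (hv : v ≠ 1) {μ : ↥P.K →* ℂˣ} (hμ : P.Fixed μ)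
    {f : G → ℂ} (hf : IsClassFunction G f) {x0 : ↥P.W} (hx0 : x0 ≠ 1)
    (h0 : ∀ k : ↥P.K, lam k ≠ 1 → f (k : G) = 0) {c : ℂ}
    (hg : ∀ k : ↥P.K, (∃ i : Fin 3, lam (P.actK (i, 0) k) ≠ 1) →
      f ((x0 : G) * k) = c * (μ k : ℂ)) :
    classInner (P.H v μ lam) f = -conj c / 4 := by
  rw [H, P.classInner_ind_const hlam _ hμ hf hx0 h0 hg, P.sum_sgn_orbit hlam hv hx0]
  ring

theorem classInner_U_const {μ : ↥P.K →* ℂˣ} (hμ : P.Fixed μ)
    {f : G → ℂ} (hf : IsClassFunction G f) {x0 : ↥P.W} (hx0 : x0 ≠ 1)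
    (h0 : ∀ k : ↥P.K, lam k ≠ 1 → f (k : G) = 0) {c : ℂ}
    (hg : ∀ k : ↥P.K, (∃ i : Fin 3, lam (P.actK (i, 0) k) ≠ 1) →
      f ((x0 : G) * k) = c * (μ k : ℂ)) :
    classInner (P.U μ lam) f = 3 * conj c / 4 := by
  rw [U, P.classInner_ind_const hlam _ hμ hf hx0 h0 hg]
  simp
  ring

end ExtPair

end Cfsg.Agent.H40.WardE
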