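import Cfsg.Agent.H40.WardE.ExtChars

/-!
The pairs of involutions with product in the support of an extended torus and the structure
functional on `Ind_T^G(s ⊗ μ (1 - lam))`.
-/

set_option autoImplicit false
set_option linter.unusedSectionVars false
set_option linter.style.haveILetI false

namespace Cfsg.Agent.H40.WardE

open Subgroup Cfsg Cfsg.Agent Cfsg.Agent.CharBasic Cfsg.Agent.CharInduce
open scoped ComplexConjugate

universe u

variable {G : Type u} [Group G]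

namespace ExtPair

variable (P : ExtPair G)

/-- `u` inverts `l` -/
def Inv (l : ↥P.K) : Prop := P.u * l * P.u⁻¹ = (l : G)⁻¹

theorem mul_sq_iff {y : G} (hy : y ∈ P.W) (l : ↥P.K) :
    P.u * (y * l) * (P.u * (y * l)) = 1 ↔ P.Inv l := by
  have huinv : P.u⁻¹ = P.u := inv_eq_of_mul_eq_one_left P.u_sq
  have huy : Commute P.u y := mul_inv_eq_iff_eq_mul.1 (P.u_W y hy)
  have hly : Commute y (l : G) := P.comm y hy l l.2
  have e : P.u * (y * l) * (P.u * (y * l)) = P.u * l * P.u⁻¹ * l :=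
    calc P.u * (y * l) * (P.u * (y * l)) = P.u * ((l : G) * y) * (P.u * (y * l)) := by rw [hly.eq]
      _ = P.u * l * (y * P.u) * y * l := by group
      _ = P.u * l * (P.u * y) * y * l := by rw [huy.eq]
      _ = P.u * l * P.u * (y * y) * l := by group
      _ = P.u * l * P.u⁻¹ * l := by rw [P.mul_self hy, mul_one, huinv]
  rw [e, Inv, mul_eq_one_iff_eq_inv]

variable {lam : ↥P.K →* ℂˣ} (hlam : P.Adapted lam)
include hlam

/-- an involution inverting an element of the support lies in `u T` -/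
theorem mem_u_coset [Finite G] {y : G} (hy : y * y = 1) {x : ↥P.W} {k : ↥P.K} (hk : lam k ≠ 1)
    (hinv : y * ((x : G) * k) * y⁻¹ = ((x : G) * k)⁻¹) : ∃ τ : ↥P.T, y = P.u * τ := by
  have ha : (x : G) * k ∈ P.T := mul_mem (P.W_le x.2) (P.K_le k.2)
  have hyi : y⁻¹ = y := inv_eq_of_mul_eq_one_left hy
  have hb : y⁻¹ * ((x : G) * k) * y = ((x : G) * k)⁻¹ := by rw [hyi]; rwa [hyi] at hinv
  have hb' : y⁻¹ * ((x : G) * k) * y ∈ P.T := hb ▸ inv_mem ha
  have he : P.equiv.symm ⟨_, hb'⟩ = (x⁻¹, k⁻¹) := by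
    rw [MulEquiv.symm_apply_eq]
    apply Subtype.ext
    simp only [hb, equiv_coe, InvMemClass.coe_inv, mul_inv_rev]
    exact ((P.comm x x.2 k k.2).symm.inv_inv).eq
  have hne : lam (P.equiv.symm ⟨_, hb'⟩).2 ≠ 1 := by
    rw [he]
    simpa using hk
  obtain ⟨⟨i, j⟩, τ, hg⟩ := P.exists_rep hlam ha hb' hne
  refine ⟨τ, ?_⟩
  suffices hij : i = 0 ∧ j = 1 by
    rw [hg, hij.1, hij.2]
    simp [rep]
  obtain ⟨z, hz⟩ := P.exists_ne_W hlam
  have hact : ∀ z' : ↥P.W, y * z' * y⁻¹ = (P.actW (i, 0) z' : G) := by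
    intro z'
    rw [← P.actW_snd i j, actW_coe, hg, show P.rep (i, j) * τ * (z' : G) * (P.rep (i, j) * τ)⁻¹ =
      P.rep (i, j) * (τ * z' * (τ : G)⁻¹) * (P.rep (i, j))⁻¹ by group,
      (P.comm_T_W τ.2 z'.2).eq, mul_inv_cancel_right]
  have hii : P.actW (i, 0) (P.actW (i, 0) z) = z := Subtype.ext (by
    rw [← hact, ← hact, show y * (y * (z : G) * y⁻¹) * y⁻¹ = (y * y) * z * (y * y)⁻¹ by group, hy]
    group)
  have hi : i = 0 := by
    have hw : ∀ n : ℕ, n < 3 → P.w ^ n * (P.w ^ n * (z : G) * (P.w ^ n)⁻¹) * (P.w ^ n)⁻¹ = z →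
        n = 0 := by
      intro n hn h
      have hz1 : (z : G) ≠ 1 := fun h => hz (Subtype.ext h)
      interval_cases n
      · rfl
      · refine absurd (P.w_notMem hlam (i := 2) (by norm_num) z.2 hz1 ?_) (by norm_num)
        rw [show P.w ^ 2 * (z : G) * (P.w ^ 2)⁻¹ =
          P.w ^ 1 * (P.w ^ 1 * z * (P.w ^ 1)⁻¹) * (P.w ^ 1)⁻¹ by group]
        exact h
      · refine absurd (P.w_notMem hlam (i := 1) (by norm_num) z.2 hz1 ?_) (by norm_num)
        have h3 : ∀ a : G, a ∈ P.W → P.w ^ 3 * a * (P.w ^ 3)⁻¹ = a := fun a ha => by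
          rw [(P.comm_T_W (show P.w ^ 3 ∈ P.T from P.w_cube) ha).eq, mul_inv_cancel_right]
        calc P.w ^ 1 * (z : G) * (P.w ^ 1)⁻¹
            = P.w ^ 3 * (P.w ^ 1 * z * (P.w ^ 1)⁻¹) * (P.w ^ 3)⁻¹ :=
              (h3 _ (by simpa using P.w_W z z.2)).symm
          _ = P.w ^ 2 * (P.w ^ 2 * z * (P.w ^ 2)⁻¹) * (P.w ^ 2)⁻¹ := by group
          _ = z := h
    refine Fin.ext (hw i i.2 ?_)
    simpa [rep] using congrArg Subtype.val hii
  refine ⟨hi, ?_⟩
  fin_cases j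
  · exfalso
    have hyT : y ∈ P.T := by
      rw [hg, hi]
      simp [rep]
    have hyW := P.mem_W_of_sq hyT hy
    have hc : Commute y ((x : G) * k) :=
      (P.comm_W hyW x.2).mul_right (P.comm y hyW k k.2)
    rw [hc.eq, mul_inv_cancel_right] at hinv
    have h2 := congrArg (· ^ (Nat.card ↥P.K + 1)) hinv
    simp only [inv_pow, P.pow_K x.2 k.2] at h2
    refine hk (P.eq_one_of_eq_inv hlam ?_)
    rw [← map_inv]
    exact congrArg lam (Subtype.ext h2)
  · rfl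

/-- the pairs with product `x k`, independent of `x` -/
theorem card_pairs [Finite G] {t : G} (ht : t * t = 1) (ht1 : t ≠ 1)
    (hconj : ∀ r : G, r * r = 1 → r ≠ 1 → IsConj t r) (x : ↥P.W) {k : ↥P.K} (hk : lam k ≠ 1) :
    Nat.card {y : G // IsConj t y ∧ IsConj t (y⁻¹ * ((x : G) * k))} =
      4 * Nat.card {l : ↥P.K // P.Inv l ∧ P.Inv (l * k)} := by
  have hsq : ∀ r, IsConj t r → r * r = 1 := by
    intro r hr
    obtain ⟨c, rfl⟩ := isConj_iff.1 hr
    rw [show c * t * c⁻¹ * (c * t * c⁻¹) = c * (t * t) * c⁻¹ by group, ht]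
    group
  have hinvol : ∀ {y : G}, y ∈ P.W → ∀ l : ↥P.K, P.Inv l → IsConj t (P.u * (y * l)) := by
    intro y hy l hl
    refine hconj _ ((P.mul_sq_iff hy l).2 hl) fun h => P.u_notMem hlam ?_
    rw [eq_inv_of_mul_eq_one_left h]
    exact inv_mem (mul_mem (P.W_le hy) (P.K_le l.2))
  have hprod : ∀ (y : ↥P.W) (l : ↥P.K), P.u * ((y : G) * l) * ((x : G) * k) =
      P.u * (((y * x : ↥P.W) : G) * ((l * k : ↥P.K) : G)) := by
    intro y l
    simp only [Subgroup.coe_mul]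
    rw [show P.u * ((y : G) * l) * ((x : G) * k) = P.u * ((y : G) * (l * x) * k) by group,
      ← (P.comm x x.2 l l.2).eq]
    group
  let f : ↥P.W × {l : ↥P.K // P.Inv l ∧ P.Inv (l * k)} →
      {y : G // IsConj t y ∧ IsConj t (y⁻¹ * ((x : G) * k))} := fun p =>
    ⟨P.u * ((p.1 : G) * (p.2.1 : G)), hinvol p.1.2 _ p.2.2.1, by
      rw [inv_eq_of_mul_eq_one_left ((P.mul_sq_iff p.1.2 _).2 p.2.2.1), hprod]
      exact hinvol (p.1 * x).2 _ p.2.2.2⟩
  have hbij : Function.Bijective f := by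
    refine ⟨?_, ?_⟩
    · rintro ⟨a, l, hl⟩ ⟨b, m, hm⟩ hab
      have h := mul_left_cancel (congrArg Subtype.val hab)
      have h' : P.equiv (a, l) = P.equiv (b, m) := Subtype.ext h
      obtain ⟨rfl, rfl⟩ := Prod.ext_iff.1 (P.equiv.injective h')
      rfl
    · rintro ⟨y, hy1, hy2⟩
      have hyy := hsq y hy1
      have hyi : y⁻¹ = y := inv_eq_of_mul_eq_one_left hyy
      have h2 := hsq _ hy2
      rw [hyi] at h2
      have hinv : y * ((x : G) * k) * y⁻¹ = ((x : G) * k)⁻¹ := by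
        rw [hyi]
        refine eq_inv_of_mul_eq_one_left ?_
        rw [← h2]
        group
      obtain ⟨τ, rfl⟩ := P.mem_u_coset hlam hyy hk hinv
      obtain ⟨⟨a, l⟩, rfl⟩ := P.equiv.surjective τ
      simp only [equiv_coe] at hyy h2
      have hl : P.Inv l := (P.mul_sq_iff a.2 l).1 hyy
      rw [hprod] at h2
      exact ⟨(a, ⟨l, hl, (P.mul_sq_iff (a * x).2 _).1 h2⟩), Subtype.ext rfl⟩
  haveI := P.klein
  rw [← Nat.card_congr (Equiv.ofBijective f hbij), Nat.card_prod, IsKleinFour.card_four]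

open scoped Classical in
/-- the structure functional of `Ind(s ⊗ μ (1 - lam))` -/
theorem functional_ind [Fintype G] [Fintype ↥P.W] [Fintype ↥P.K] {t : G} (ht : t * t = 1)
    (ht1 : t ≠ 1) (hconj : ∀ r : G, r * r = 1 → r ≠ 1 → IsConj t r) (s : ↥P.W → ℂ)
    (μ : ↥P.K →* ℂˣ) :
    ∑ χ : IrrCharacter G, classInner (P.ind s μ lam) (χ : G → ℂ) * (χ : G → ℂ) t ^ 2 /
        (χ : G → ℂ) 1 =
      (Nat.card (centralizer ({t} : Set G)) : ℂ) ^ 2 / Nat.card G *
        ((∑ x : ↥P.W, s x) * (Nat.card ↥P.K : ℂ)⁻¹ * ∑ k : ↥P.K,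
          (μ k : ℂ) * (1 - (lam k : ℂ)) * (Nat.card {l : ↥P.K // P.Inv l ∧ P.Inv (l * k)} : ℂ)) := by
  haveI := P.klein
  let N : G → ℂ := fun g => (Nat.card {y : G // IsConj t y ∧ IsConj t (y⁻¹ * g)} : ℂ)
  set J : ℂ := ((centralizer ({t} : Set G)).index : ℂ) with hJ
  have hG0 : (Nat.card G : ℂ) ≠ 0 := by simp
  have htt : t⁻¹ = t := inv_eq_of_mul_eq_one_left ht
  have hreal : ∀ χ : IrrCharacter G, conj ((χ : G → ℂ) t) = (χ : G → ℂ) t := fun χ => by
    rw [H83.irr_conj_apply χ.2, htt]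
  have hN : ∀ g, (Nat.card G : ℂ) * N g = J * J * ∑ χ : IrrCharacter G,
      (χ : G → ℂ) t ^ 2 / (χ : G → ℂ) 1 * (χ : G → ℂ) g := by
    intro g
    rw [show (Nat.card G : ℂ) * N g = (Nat.card G : ℂ) *
      (Nat.card {y : G // IsConj t y ∧ IsConj t (y⁻¹ * g)} : ℂ) from rfl,
      H83.card_pairs_mul_card t t g, hJ]
    congr 1
    exact Finset.sum_congr rfl fun χ _ => by rw [hreal]; ring
  have hNexp : N = ∑ χ : IrrCharacter G,
      (J * J / (Nat.card G : ℂ) * ((χ : G → ℂ) t ^ 2 / (χ : G → ℂ) 1)) • (χ : G → ℂ) := by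
    funext g
    rw [← mul_right_inj' hG0, hN g, Finset.sum_apply, Finset.mul_sum, Finset.mul_sum]
    refine Finset.sum_congr rfl fun χ _ => ?_
    rw [Pi.smul_apply, smul_eq_mul]
    field_simp
  have hcl : IsClassFunction G N := by
    rw [hNexp]
    intro g x
    simp only [Finset.sum_apply, Pi.smul_apply]
    exact Finset.sum_congr rfl fun χ _ => by rw [IsIrr.isClassFunction χ.2 g x]
  set cnt : ↥P.K → ℂ := fun k => (Nat.card {l : ↥P.K // P.Inv l ∧ P.Inv (l * k)} : ℂ) with hcnt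
  have hv : classInner (P.ind s μ lam) N = (∑ x : ↥P.W, s x) * (Nat.card ↥P.K : ℂ)⁻¹ *
      ∑ k : ↥P.K, (μ k : ℂ) * (1 - (lam k : ℂ)) * cnt k := by
    rw [P.classInner_ind s μ lam hcl]
    have e : ∀ (x : ↥P.W) (k : ↥P.K),
        s x * ((μ k : ℂ) * (1 - (lam k : ℂ))) * conj (N ((x : G) * k)) =
        4 * (s x * ((μ k : ℂ) * (1 - (lam k : ℂ)) * cnt k)) := by
      intro x k
      by_cases hk : lam k = 1
      · simp [hk]
      · simp only [N, hcnt, P.card_pairs hlam ht ht1 hconj x hk, map_natCast]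
        push_cast
        ring
    simp only [e, ← Finset.mul_sum, ← Finset.sum_mul]
    have hk0 : (Nat.card ↥P.K : ℂ) ≠ 0 := by simp
    field_simp
  rw [hNexp, classInner_sum_right] at hv
  have hsum : ∀ χ : IrrCharacter G, classInner (P.ind s μ lam)
      ((J * J / (Nat.card G : ℂ) * ((χ : G → ℂ) t ^ 2 / (χ : G → ℂ) 1)) • (χ : G → ℂ)) =
      J * J / (Nat.card G : ℂ) *
        (classInner (P.ind s μ lam) (χ : G → ℂ) * (χ : G → ℂ) t ^ 2 / (χ : G → ℂ) 1) := by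
    intro χ
    rw [classInner_smul_right]
    simp only [map_div₀, map_mul, map_pow, map_natCast, hreal, hJ,
      show conj ((χ : G → ℂ) 1) = (χ : G → ℂ) 1 by rw [H83.irr_conj_apply χ.2, inv_one]]
    ring
  rw [Finset.sum_congr rfl fun χ _ => hsum χ, ← Finset.mul_sum] at hv
  have hC : (Nat.card G : ℂ) = J * (Nat.card (centralizer ({t} : Set G)) : ℂ) := by
    rw [hJ]
    exact_mod_cast (index_mul_card (centralizer ({t} : Set G))).symm
  have hC0 : (Nat.card (centralizer ({t} : Set G)) : ℂ) ≠ 0 := by simp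
  have hJ0 : J ≠ 0 := fun h => hG0 (by rw [hC, h, zero_mul])
  rw [← mul_right_inj' (show J * J / (Nat.card G : ℂ) ≠ 0 from
    div_ne_zero (mul_ne_zero hJ0 hJ0) hG0), hv, hC]
  simp only [hcnt]
  field_simp

open scoped Classical in
/-- the structure functional vanishes on `H v` -/
theorem functional_H [Fintype G] {t : G} (ht : t * t = 1) (ht1 : t ≠ 1)
    (hconj : ∀ r : G, r * r = 1 → r ≠ 1 → IsConj t r) (μ : ↥P.K →* ℂˣ) {v : ↥P.W} (hv : v ≠ 1) :
    ∑ χ : IrrCharacter G, classInner (P.H v μ lam) (χ : G → ℂ) * (χ : G → ℂ) t ^ 2 /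
      (χ : G → ℂ) 1 = 0 := by
  haveI : Fintype ↥P.W := Fintype.ofFinite _
  haveI : Fintype ↥P.K := Fintype.ofFinite _
  rw [H, P.functional_ind hlam ht ht1 hconj, P.sum_sgn hv, zero_mul, zero_mul, mul_zero]

open scoped Classical in
/-- the structure functional on `U`, when the inverted elements form a subgroup `K0` -/
theorem functional_U [Fintype G] {t : G} (ht : t * t = 1) (ht1 : t ≠ 1)
    (hconj : ∀ r : G, r * r = 1 → r ≠ 1 → IsConj t r) {μ : ↥P.K →* ℂˣ} (K0 : Subgroup ↥P.K)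
    (hK0 : ∀ l : ↥P.K, P.Inv l ↔ l ∈ K0) (hμ0 : ∀ l ∈ K0, μ l = 1)
    (hlam0 : ∃ l ∈ K0, lam l ≠ 1) :
    ∑ χ : IrrCharacter G, classInner (P.U μ lam) (χ : G → ℂ) * (χ : G → ℂ) t ^ 2 /
      (χ : G → ℂ) 1 =
      4 * (Nat.card ↥K0 : ℂ) ^ 2 * (Nat.card (centralizer ({t} : Set G)) : ℂ) ^ 2 /
        ((Nat.card ↥P.K : ℂ) * Nat.card G) := by
  haveI : Fintype ↥P.W := Fintype.ofFinite _
  haveI : Fintype ↥P.K := Fintype.ofFinite _
  haveI : Fintype ↥K0 := Fintype.ofFinite _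
  haveI := P.klein
  rw [U, P.functional_ind hlam ht ht1 hconj]
  have hcnt : ∀ k : ↥P.K, (Nat.card {l : ↥P.K // P.Inv l ∧ P.Inv (l * k)} : ℂ) =
      if k ∈ K0 then (Nat.card ↥K0 : ℂ) else 0 := by
    intro k
    split_ifs with hk
    · congr 1
      exact Nat.card_congr (Equiv.subtypeEquivRight fun l => by
        rw [hK0, hK0]
        exact ⟨fun h => h.1, fun h => ⟨h, mul_mem h hk⟩⟩)
    · have : IsEmpty {l : ↥P.K // P.Inv l ∧ P.Inv (l * k)} := ⟨fun ⟨l, h1, h2⟩ => hk (by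
        rw [hK0] at h1 h2
        simpa using mul_mem (inv_mem h1) h2)⟩
      simp
  have hsum : ∑ k : ↥P.K, (μ k : ℂ) * (1 - (lam k : ℂ)) *
      (if k ∈ K0 then (Nat.card ↥K0 : ℂ) else 0) = (Nat.card ↥K0 : ℂ) ^ 2 := by
    obtain ⟨a, ha, ha1⟩ := hlam0
    have h0 : ∑ l : ↥K0, (lam (l : ↥P.K) : ℂ) = 0 := by
      have h3 := Fintype.sum_equiv (Equiv.mulLeft (⟨a, ha⟩ : ↥K0))
        (fun l => (lam ((⟨a, ha⟩ * l : ↥K0) : ↥P.K) : ℂ)) (fun l => (lam (l : ↥P.K) : ℂ))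
        (fun l => rfl)
      simp only [Subgroup.coe_mul, map_mul, Units.val_mul, ← Finset.mul_sum] at h3
      have : ((lam a : ℂ) - 1) * ∑ l : ↥K0, (lam (l : ↥P.K) : ℂ) = 0 := by
        rw [sub_mul, h3, one_mul, sub_self]
      exact (mul_eq_zero.1 this).resolve_left (sub_ne_zero.2 (by simpa using ha1))
    simp only [mul_ite, mul_zero]
    rw [← Finset.sum_filter, Finset.sum_subtype _ (p := fun k => k ∈ K0) (fun k => by simp),
      Finset.sum_congr rfl fun (l : ↥K0) _ => show (μ (l : ↥P.K) : ℂ) * (1 - (lam (l : ↥P.K) : ℂ)) *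
        (Nat.card ↥K0 : ℂ) = (Nat.card ↥K0 : ℂ) - (Nat.card ↥K0 : ℂ) * (lam (l : ↥P.K) : ℂ) by
          rw [hμ0 l l.2, Units.val_one]; ring,
      Finset.sum_sub_distrib, Finset.sum_const, Finset.card_univ, ← Nat.card_eq_fintype_card,
      ← Finset.mul_sum, h0, mul_zero, sub_zero, nsmul_eq_mul, pow_two]
  simp only [hcnt, hsum]
  rw [Finset.sum_const, Finset.card_univ, ← Nat.card_eq_fintype_card,
    IsKleinFour.card_four (G := ↥P.W)]
  push_cast
  ring

end ExtPair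

end Cfsg.Agent.H40.WardE
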