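import Cfsg.Agent.CharInduce.Ops
import Cfsg.Agent.CharInduce.Induce

/-!
A torus `T = W × K` extended by field automorphisms: `K` need not be abelian; the linear character
`lam` of `K` is inverted by `u`, moved by `w`, and every element outside its kernel has centraliser
inside `T`.
-/

set_option autoImplicit false

namespace Cfsg.Agent.H40.WardE

open Subgroup Cfsg Cfsg.Agent Cfsg.Agent.CharBasic Cfsg.Agent.CharInduce
open scoped ComplexConjugate

set_option linter.unusedSectionVars false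
set_option linter.style.haveILetI false

universe u

variable {G : Type u} [Group G]

/-- a four group, an odd group `K` centralising it and the elements inducing its normaliser -/
structure ExtPair (G : Type u) [Group G] where
  /-- the four group -/
  W : Subgroup G
  /-- the odd part -/
  K : Subgroup G
  /-- the element of order three on `W` -/
  w : G
  /-- the involution -/
  u : G
  klein : IsKleinFour ↥W
  odd : Odd (Nat.card ↥K)
  comm : ∀ x ∈ W, ∀ k ∈ K, Commute x k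
  w_W : ∀ x ∈ W, w * x * w⁻¹ ∈ W
  w_K : ∀ k ∈ K, w * k * w⁻¹ ∈ K
  w_cube : w ^ 3 ∈ W ⊔ K
  w_fpf : ∀ x ∈ W, w * x * w⁻¹ = x → x = 1
  u_sq : u * u = 1
  u_W : ∀ x ∈ W, u * x * u⁻¹ = x
  u_K : ∀ k ∈ K, u * k * u⁻¹ ∈ K
  normaliser : ∀ g : G, (∀ x ∈ W, g * x * g⁻¹ ∈ W) →
    ∃ i < 3, ∃ j < 2, (w ^ i * u ^ j)⁻¹ * g ∈ W ⊔ K

namespace ExtPair

variable (P : ExtPair G)

/-- the extended torus -/
def T : Subgroup G := P.W ⊔ P.K

theorem W_le : P.W ≤ P.T := le_sup_left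
theorem K_le : P.K ≤ P.T := le_sup_right

theorem mul_self {x : G} (hx : x ∈ P.W) : x * x = 1 := by
  haveI := P.klein
  simpa using congrArg Subtype.val (IsKleinFour.mul_self (⟨x, hx⟩ : ↥P.W))

theorem comm_W {x y : G} (hx : x ∈ P.W) (hy : y ∈ P.W) : Commute x y := by
  haveI := P.klein
  haveI : IsMulCommutative ↥P.W := IsKleinFour.isMulCommutative
  exact congrArg Subtype.val (mul_comm' (a := (⟨x, hx⟩ : ↥P.W)) (b := ⟨y, hy⟩))

/-- the multiplication map -/
def mulHom : ↥P.W × ↥P.K →* G :=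
  P.W.subtype.noncommCoprod P.K.subtype fun x k => P.comm x x.2 k k.2

@[simp] theorem mulHom_apply (x : ↥P.W × ↥P.K) : P.mulHom x = (x.1 : G) * x.2 := rfl

theorem eq_one_of_mem_both {x : G} (hx : x ∈ P.W) (hx' : x ∈ P.K) : x = 1 :=
  orderOf_eq_one_iff.1 (Nat.eq_one_of_dvd_coprimes
    (Nat.coprime_two_left.2 P.odd)
    (orderOf_dvd_of_pow_eq_one (by rw [pow_two]; exact P.mul_self hx))
    (Subgroup.orderOf_dvd_natCard _ hx'))

theorem mulHom_injective : Function.Injective P.mulHom := by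
  rw [injective_iff_map_eq_one]
  rintro ⟨x, k⟩ h
  simp only [mulHom_apply] at h
  have hk : (k : G) = (x : G)⁻¹ := eq_inv_of_mul_eq_one_right h
  have hx : (k : G) = 1 := P.eq_one_of_mem_both (hk ▸ inv_mem x.2) k.2
  have hx' : (x : G) = 1 := by simpa [hx] using h
  exact Prod.ext (Subtype.ext hx') (Subtype.ext hx)

theorem range_mulHom : P.mulHom.range = P.T := by
  refine le_antisymm ?_ (sup_le ?_ ?_)
  · rintro _ ⟨⟨x, k⟩, rfl⟩
    exact mul_mem (P.W_le x.2) (P.K_le k.2)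
  · exact fun x hx => ⟨(⟨x, hx⟩, 1), by simp⟩
  · exact fun k hk => ⟨(1, ⟨k, hk⟩), by simp⟩

/-- the extended torus as a direct product -/
noncomputable def equiv : ↥P.W × ↥P.K ≃* ↥P.T :=
  (MonoidHom.ofInjective P.mulHom_injective).trans (MulEquiv.subgroupCongr P.range_mulHom)

@[simp] theorem equiv_coe (x : ↥P.W × ↥P.K) : (P.equiv x : G) = (x.1 : G) * x.2 := rfl

theorem exists_eq {g : G} (hg : g ∈ P.T) : ∃ x ∈ P.W, ∃ k ∈ P.K, g = x * k := by
  rw [← P.range_mulHom] at hg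
  obtain ⟨⟨x, k⟩, rfl⟩ := hg
  exact ⟨x, x.2, k, k.2, rfl⟩

/-- `T` centralises `W` -/
theorem comm_T_W {τ x : G} (hτ : τ ∈ P.T) (hx : x ∈ P.W) : Commute τ x := by
  obtain ⟨y, hy, k, hk, rfl⟩ := P.exists_eq hτ
  exact (P.comm_W hy hx).mul_left (P.comm x hx k hk).symm

theorem pow_card_K {k : G} (hk : k ∈ P.K) : k ^ Nat.card ↥P.K = 1 :=
  congrArg Subtype.val (pow_card_eq_one' (x := (⟨k, hk⟩ : ↥P.K)))

theorem two_mul_card : ∃ n : ℕ, Nat.card ↥P.K + 1 = 2 * n := by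
  obtain ⟨n, hn⟩ := P.odd
  exact ⟨n + 1, by omega⟩

/-- the `K`-part is a power -/
theorem pow_K {x k : G} (hx : x ∈ P.W) (hk : k ∈ P.K) :
    (x * k) ^ (Nat.card ↥P.K + 1) = k := by
  obtain ⟨n, hn⟩ := P.two_mul_card
  rw [(P.comm x hx k hk).mul_pow, pow_succ k, P.pow_card_K hk, one_mul, hn, pow_mul, pow_two,
    P.mul_self hx, one_pow, one_mul]

theorem mem_W_of_sq {g : G} (hg : g ∈ P.T) (h2 : g * g = 1) : g ∈ P.W := by
  obtain ⟨x, hx, k, hk, rfl⟩ := P.exists_eq hg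
  have h := P.pow_K hx hk
  obtain ⟨n, hn⟩ := P.two_mul_card
  rw [hn, pow_mul, pow_two, h2, one_pow] at h
  rwa [← h, mul_one]

theorem conj_pow_W (i j : ℕ) {x : G} (hx : x ∈ P.W) :
    P.w ^ i * P.u ^ j * x * (P.w ^ i * P.u ^ j)⁻¹ ∈ P.W := by
  have hu : ∀ (j : ℕ) (x : G), x ∈ P.W → P.u ^ j * x * (P.u ^ j)⁻¹ = x := by
    intro j
    induction j with
    | zero => intro x _; simp
    | succ j ih =>
      intro x hx
      rw [show P.u ^ (j + 1) * x * (P.u ^ (j + 1))⁻¹ = P.u ^ j * (P.u * x * P.u⁻¹) * (P.u ^ j)⁻¹ by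
        rw [pow_succ]; group, P.u_W x hx, ih x hx]
  have hw : ∀ (i : ℕ) (x : G), x ∈ P.W → P.w ^ i * x * (P.w ^ i)⁻¹ ∈ P.W := by
    intro i
    induction i with
    | zero => intro x hx; simpa using hx
    | succ i ih =>
      intro x hx
      rw [show P.w ^ (i + 1) * x * (P.w ^ (i + 1))⁻¹ = P.w ^ i * (P.w * x * P.w⁻¹) * (P.w ^ i)⁻¹ by
        rw [pow_succ]; group]
      exact ih _ (P.w_W x hx)
  rw [show P.w ^ i * P.u ^ j * x * (P.w ^ i * P.u ^ j)⁻¹ =
    P.w ^ i * (P.u ^ j * x * (P.u ^ j)⁻¹) * (P.w ^ i)⁻¹ by group, hu j x hx]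
  exact hw i x hx

theorem conj_pow_K (i j : ℕ) {k : G} (hk : k ∈ P.K) :
    P.w ^ i * P.u ^ j * k * (P.w ^ i * P.u ^ j)⁻¹ ∈ P.K := by
  have hu : ∀ (j : ℕ) (x : G), x ∈ P.K → P.u ^ j * x * (P.u ^ j)⁻¹ ∈ P.K := by
    intro j
    induction j with
    | zero => intro x hx; simpa using hx
    | succ j ih =>
      intro x hx
      rw [show P.u ^ (j + 1) * x * (P.u ^ (j + 1))⁻¹ = P.u ^ j * (P.u * x * P.u⁻¹) * (P.u ^ j)⁻¹ by
        rw [pow_succ]; group]
      exact ih _ (P.u_K x hx)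
  have hw : ∀ (i : ℕ) (x : G), x ∈ P.K → P.w ^ i * x * (P.w ^ i)⁻¹ ∈ P.K := by
    intro i
    induction i with
    | zero => intro x hx; simpa using hx
    | succ i ih =>
      intro x hx
      rw [show P.w ^ (i + 1) * x * (P.w ^ (i + 1))⁻¹ = P.w ^ i * (P.w * x * P.w⁻¹) * (P.w ^ i)⁻¹ by
        rw [pow_succ]; group]
      exact ih _ (P.w_K x hx)
  rw [show P.w ^ i * P.u ^ j * k * (P.w ^ i * P.u ^ j)⁻¹ =
    P.w ^ i * (P.u ^ j * k * (P.u ^ j)⁻¹) * (P.w ^ i)⁻¹ by group]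
  exact hw i _ (hu j k hk)

/-- the six representatives of the normaliser -/
def rep (c : Fin 3 × Fin 2) : G := P.w ^ (c.1 : ℕ) * P.u ^ (c.2 : ℕ)

theorem rep_W (c : Fin 3 × Fin 2) {x : G} (hx : x ∈ P.W) : P.rep c * x * (P.rep c)⁻¹ ∈ P.W :=
  P.conj_pow_W _ _ hx

theorem rep_K (c : Fin 3 × Fin 2) {k : G} (hk : k ∈ P.K) : P.rep c * k * (P.rep c)⁻¹ ∈ P.K :=
  P.conj_pow_K _ _ hk

theorem rep_T (c : Fin 3 × Fin 2) {a : G} (ha : a ∈ P.T) : P.rep c * a * (P.rep c)⁻¹ ∈ P.T := by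
  obtain ⟨x, hx, k, hk, rfl⟩ := P.exists_eq ha
  rw [show P.rep c * (x * k) * (P.rep c)⁻¹ =
    (P.rep c * x * (P.rep c)⁻¹) * (P.rep c * k * (P.rep c)⁻¹) by group]
  exact mul_mem (P.W_le (P.rep_W c hx)) (P.K_le (P.rep_K c hk))

/-- the action of a representative on `W` -/
def actW (c : Fin 3 × Fin 2) : ↥P.W →* ↥P.W where
  toFun x := ⟨P.rep c * x * (P.rep c)⁻¹, P.rep_W c x.2⟩
  map_one' := Subtype.ext (by simp)
  map_mul' x y := Subtype.ext (by simp only [Subgroup.coe_mul]; group)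

/-- the action of a representative on `K` -/
def actK (c : Fin 3 × Fin 2) : ↥P.K →* ↥P.K where
  toFun x := ⟨P.rep c * x * (P.rep c)⁻¹, P.rep_K c x.2⟩
  map_one' := Subtype.ext (by simp)
  map_mul' x y := Subtype.ext (by simp only [Subgroup.coe_mul]; group)

/-- conjugation by a representative as a map of `T` -/
def actT (c : Fin 3 × Fin 2) (a : ↥P.T) : ↥P.T :=
  ⟨P.rep c * a * (P.rep c)⁻¹, P.rep_T c a.2⟩

@[simp] theorem actW_coe (c : Fin 3 × Fin 2) (x : ↥P.W) :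
    (P.actW c x : G) = P.rep c * x * (P.rep c)⁻¹ := rfl

@[simp] theorem actK_coe (c : Fin 3 × Fin 2) (x : ↥P.K) :
    (P.actK c x : G) = P.rep c * x * (P.rep c)⁻¹ := rfl

theorem actT_equiv (c : Fin 3 × Fin 2) (x : ↥P.W) (k : ↥P.K) :
    P.actT c (P.equiv (x, k)) = P.equiv (P.actW c x, P.actK c k) := by
  apply Subtype.ext
  simp only [actT, equiv_coe, actW_coe, actK_coe]
  group

theorem actT_injective (c : Fin 3 × Fin 2) : Function.Injective (P.actT c) := by
  intro x y h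
  have h' := congrArg Subtype.val h
  simp only [actT] at h'
  exact Subtype.ext (mul_left_cancel (mul_right_cancel h'))

theorem actW_injective (c : Fin 3 × Fin 2) : Function.Injective (P.actW c) := by
  intro x y h
  have h' := congrArg Subtype.val h
  simp only [actW_coe] at h'
  exact Subtype.ext (mul_left_cancel (mul_right_cancel h'))

theorem actK_injective (c : Fin 3 × Fin 2) : Function.Injective (P.actK c) := by
  intro x y h
  have h' := congrArg Subtype.val h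
  simp only [actK_coe] at h'
  exact Subtype.ext (mul_left_cancel (mul_right_cancel h'))

theorem actW_snd (i : Fin 3) (j : Fin 2) (x : ↥P.W) : P.actW (i, j) x = P.actW (i, 0) x := by
  apply Subtype.ext
  fin_cases j
  · rfl
  · simp only [actW_coe, rep, Fin.mk_one, Fin.val_one, pow_one, Fin.val_zero, pow_zero, mul_one]
    rw [show P.w ^ (i : ℕ) * P.u * x * (P.w ^ (i : ℕ) * P.u)⁻¹ =
      P.w ^ (i : ℕ) * (P.u * x * P.u⁻¹) * (P.w ^ (i : ℕ))⁻¹ by group, P.u_W x x.2]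

/-- conjugation of `k` by an element of `T` inside `K` -/
theorem conj_K {τ k : G} (hτ : τ ∈ P.T) (hk : k ∈ P.K) : τ * k * τ⁻¹ ∈ P.K := by
  obtain ⟨y, hy, l, hl, rfl⟩ := P.exists_eq hτ
  rw [show y * l * k * (y * l)⁻¹ = y * (l * k * l⁻¹) * y⁻¹ by group,
    (P.comm y hy _ (mul_mem (mul_mem hl hk) (inv_mem hl))).eq, mul_inv_cancel_right]
  exact mul_mem (mul_mem hl hk) (inv_mem hl)

theorem hom_conj (lam : ↥P.K →* ℂˣ) {τ : G} (hτ : τ ∈ P.T) (k : ↥P.K) :
    lam ⟨τ * k * τ⁻¹, P.conj_K hτ k.2⟩ = lam k := by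
  obtain ⟨y, hy, l, hl, rfl⟩ := P.exists_eq hτ
  have e : (⟨y * l * k * (y * l)⁻¹, P.conj_K hτ k.2⟩ : ↥P.K) = ⟨l, hl⟩ * k * ⟨l, hl⟩⁻¹ := by
    apply Subtype.ext
    simp only [Subgroup.coe_mul, InvMemClass.coe_inv]
    rw [show y * l * (k : G) * (y * l)⁻¹ = y * (l * k * l⁻¹) * y⁻¹ by group,
      (P.comm y hy _ (mul_mem (mul_mem hl k.2) (inv_mem hl))).eq, mul_inv_cancel_right]
  rw [e, map_mul, map_mul, map_inv, mul_comm (lam ⟨l, hl⟩), mul_inv_cancel_right]

/-- the sign of `W` with kernel `{1, v}` -/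
noncomputable def sgn (v x : ↥P.W) : ℂ :=
  open Classical in if x = 1 ∨ x = v then 1 else -1

theorem sgn_conj (v x : ↥P.W) : conj (P.sgn v x) = P.sgn v x := by
  unfold sgn; split_ifs <;> simp

theorem sgn_one (v : ↥P.W) : P.sgn v 1 = 1 := by simp [sgn]

theorem sgn_mul (v x y : ↥P.W) (hv : v ≠ 1) : P.sgn v (x * y) = P.sgn v x * P.sgn v y := by
  classical
  haveI := P.klein
  have hind : (Subgroup.zpowers v).index = 2 := by
    have h := Subgroup.card_mul_index (Subgroup.zpowers v)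
    rw [Nat.card_zpowers, orderOf_eq_prime (by rw [pow_two]; exact IsKleinFour.mul_self v) hv,
      IsKleinFour.card_four] at h
    omega
  have hmem : ∀ z : ↥P.W, (z = 1 ∨ z = v) ↔ z ∈ Subgroup.zpowers v := by
    intro z
    constructor
    · rintro (rfl | rfl)
      · exact one_mem _
      · exact Subgroup.mem_zpowers _
    · intro hz
      obtain ⟨n, rfl⟩ := Subgroup.mem_zpowers_iff.1 hz
      have h2 : v ^ (2 : ℤ) = 1 := by rw [zpow_two]; exact IsKleinFour.mul_self v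
      obtain ⟨k, rfl | rfl⟩ : ∃ k, n = 2 * k ∨ n = 2 * k + 1 := ⟨n / 2, by omega⟩
      · left; rw [zpow_mul, h2, one_zpow]
      · right; rw [zpow_add, zpow_mul, h2, one_zpow, one_mul, zpow_one]
  simp only [sgn, hmem, Subgroup.mul_mem_iff_of_index_two hind]
  by_cases h1 : x ∈ Subgroup.zpowers v <;> by_cases h2 : y ∈ Subgroup.zpowers v <;> simp [h1, h2]

section Sums

variable [Finite G]

theorem sum_sgn [Fintype ↥P.W] {v : ↥P.W} (hv : v ≠ 1) : ∑ x : ↥P.W, P.sgn v x = 0 := by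
  classical
  haveI := P.klein
  obtain ⟨z, hz⟩ : ∃ z : ↥P.W, P.sgn v z = -1 := by
    by_contra h
    push Not at h
    have hsub : (Finset.univ : Finset ↥P.W) ⊆ {1, v} := fun z _ => by
      have := h z
      simp only [sgn] at this
      by_contra hz
      simp only [Finset.mem_insert, Finset.mem_singleton] at hz
      exact this (if_neg hz)
    have h1 := Finset.card_le_card hsub
    have h2 := Finset.card_le_two (a := (1 : ↥P.W)) (b := v)
    rw [Finset.card_univ, ← Nat.card_eq_fintype_card, IsKleinFour.card_four] at h1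
    omega
  have h3 := Fintype.sum_equiv (Equiv.mulLeft z) (fun x => P.sgn v (z * x))
    (fun x => P.sgn v x) (fun x => rfl)
  simp only [P.sgn_mul v z _ hv, hz, neg_one_mul, Finset.sum_neg_distrib] at h3
  linear_combination (-1 / 2 : ℂ) * h3

theorem sum_sgn_mul [Fintype ↥P.W] {v v' : ↥P.W} (hv : v ≠ 1) (hv' : v' ≠ 1) :
    ∑ x : ↥P.W, P.sgn v x * P.sgn v' x = open Classical in if v = v' then 4 else 0 := by
  classical
  haveI := P.klein
  split_ifs with h
  · subst h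
    have h1 : ∀ x : ↥P.W, P.sgn v x * P.sgn v x = 1 := fun x => by
      unfold sgn; split_ifs <;> simp
    simp [h1, ← Nat.card_eq_fintype_card, IsKleinFour.card_four]
  · have h2 : P.sgn v v * P.sgn v' v = -1 := by simp [sgn, hv, h]
    have h3 := Fintype.sum_equiv (Equiv.mulLeft v) (fun x => P.sgn v (v * x) * P.sgn v' (v * x))
      (fun x => P.sgn v x * P.sgn v' x) (fun x => rfl)
    have h4 : ∀ x, P.sgn v (v * x) * P.sgn v' (v * x) = -(P.sgn v x * P.sgn v' x) := fun x => by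
      rw [P.sgn_mul v v x hv, P.sgn_mul v' v x hv', mul_mul_mul_comm, h2, neg_one_mul]
    simp only [h4, Finset.sum_neg_distrib] at h3
    linear_combination (-1 / 2 : ℂ) * h3

theorem sum_hom [Fintype ↥P.K] (μ : ↥P.K →* ℂˣ) :
    ∑ k : ↥P.K, (μ k : ℂ) = open Classical in if μ = 1 then (Nat.card ↥P.K : ℂ) else 0 := by
  classical
  split_ifs with h
  · subst h; simp [← Nat.card_eq_fintype_card]
  · obtain ⟨a, ha⟩ : ∃ a, μ a ≠ 1 := by
      by_contra hc
      push Not at hc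
      exact h (MonoidHom.ext hc)
    have h3 := Fintype.sum_equiv (Equiv.mulLeft a) (fun x => (μ (a * x) : ℂ))
      (fun x => (μ x : ℂ)) (fun x => rfl)
    simp only [map_mul, Units.val_mul, ← Finset.mul_sum] at h3
    have : ((μ a : ℂ) - 1) * ∑ k : ↥P.K, (μ k : ℂ) = 0 := by rw [sub_mul, h3, one_mul, sub_self]
    exact (mul_eq_zero.1 this).resolve_left (sub_ne_zero.2 (by simpa using ha))

end Sums

/-- a linear character adapted to the pair -/
structure Adapted (lam : ↥P.K →* ℂˣ) : Prop where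
  cent : ∀ k : ↥P.K, lam k ≠ 1 → centralizer ({(k : G)} : Set G) ≤ P.T
  inv : ∀ k : ↥P.K, lam ⟨P.u * k * P.u⁻¹, P.u_K k k.2⟩ = (lam k)⁻¹
  move : ∃ k : ↥P.K, lam ⟨P.w * k * P.w⁻¹, P.w_K k k.2⟩ ≠ lam k

variable {lam : ↥P.K →* ℂˣ} (hlam : P.Adapted lam)
include hlam

theorem exists_ne : ∃ k : ↥P.K, lam k ≠ 1 := by
  obtain ⟨k, hk⟩ := hlam.move
  by_contra h
  push Not at h
  exact hk (by rw [h, h])

theorem lam_one_ne : lam ≠ 1 := by
  obtain ⟨k, hk⟩ := P.exists_ne hlam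
  exact fun e => hk (by rw [e]; rfl)

theorem eq_one_of_eq_inv {z : ↥P.K} (hz : lam z = (lam z)⁻¹) : lam z = 1 := by
  have e2 : lam z * lam z = 1 := by nth_rewrite 1 [hz]; exact inv_mul_cancel _
  obtain ⟨n, hn⟩ := P.odd
  have hkm : lam z ^ Nat.card ↥P.K = 1 := by rw [← map_pow, pow_card_eq_one', map_one]
  rwa [hn, pow_succ, pow_mul, pow_two, e2, one_pow, one_mul] at hkm

theorem u_notMem : P.u ∉ P.T := fun h => by
  obtain ⟨k, hk⟩ := P.exists_ne hlam
  have e := hlam.inv k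
  rw [P.hom_conj lam h k] at e
  exact hk (P.eq_one_of_eq_inv hlam e)

theorem w_notMem {i : ℕ} (hi : i < 3) {x : G} (hx : x ∈ P.W) (hx1 : x ≠ 1)
    (h : P.w ^ i * x * (P.w ^ i)⁻¹ = x) : i = 0 := by
  interval_cases i
  · rfl
  · exact absurd (P.w_fpf x hx (by simpa using h)) hx1
  · refine absurd (P.w_fpf x hx ?_) hx1
    calc P.w * x * P.w⁻¹ = P.w * (P.w ^ 2 * x * (P.w ^ 2)⁻¹) * P.w⁻¹ := by rw [h]
      _ = P.w ^ 3 * x * (P.w ^ 3)⁻¹ := by group
      _ = x := by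
        rw [(P.comm_T_W (show P.w ^ 3 ∈ P.T from P.w_cube) hx).eq, mul_inv_cancel_right]

theorem orbit_injective {x : ↥P.W} (hx : x ≠ 1) :
    Function.Injective fun i : Fin 3 => P.actW (i, 0) x := by
  intro a b hab
  have e := congrArg Subtype.val hab
  simp only [actW_coe, rep, Fin.val_zero, pow_zero, mul_one] at e
  have hstep : ∀ m n : ℕ, m ≤ n → n < 3 → P.w ^ m * (x : G) * (P.w ^ m)⁻¹ =
      P.w ^ n * (x : G) * (P.w ^ n)⁻¹ → m = n := by
    intro m n hmn hn he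
    obtain ⟨d, rfl⟩ := Nat.exists_eq_add_of_le hmn
    rw [pow_add, show P.w ^ m * P.w ^ d * (x : G) * (P.w ^ m * P.w ^ d)⁻¹ =
      P.w ^ m * (P.w ^ d * (x : G) * (P.w ^ d)⁻¹) * (P.w ^ m)⁻¹ by group] at he
    have := P.w_notMem hlam (show d < 3 by omega) x.2 (fun h => hx (Subtype.ext h))
      (mul_left_cancel (mul_right_cancel he)).symm
    omega
  rcases le_total (a : ℕ) b with hle | hle
  · exact Fin.ext (hstep _ _ hle b.2 e)
  · exact Fin.ext (hstep _ _ hle a.2 e.symm).symm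

theorem exists_ne_W [Finite G] : ∃ x : ↥P.W, x ≠ 1 := by
  haveI := P.klein
  haveI : Nontrivial ↥P.W := by
    refine (Finite.one_lt_card_iff_nontrivial).1 ?_
    rw [IsKleinFour.card_four]; norm_num
  exact _root_.exists_ne 1

theorem rep_inj [Finite G] {c c' : Fin 3 × Fin 2} {τ τ' : ↥P.T}
    (h : P.rep c * τ = P.rep c' * τ') : (c, τ) = (c', τ') := by
  obtain ⟨i, j⟩ := c
  obtain ⟨i', j'⟩ := c'
  obtain ⟨x, hx⟩ := P.exists_ne_W hlam
  have hW : ∀ (c : Fin 3 × Fin 2) (τ : ↥P.T),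
      P.rep c * τ * x * (P.rep c * τ)⁻¹ = (P.actW (c.1, 0) x : G) := by
    intro c τ
    rw [show P.rep c * τ * (x : G) * (P.rep c * τ)⁻¹ =
      P.rep c * (τ * x * (τ : G)⁻¹) * (P.rep c)⁻¹ by group,
      (P.comm_T_W τ.2 x.2).eq, mul_inv_cancel_right, ← P.actW_snd c.1 c.2 x, actW_coe]
  have hii : i = i' := P.orbit_injective hlam hx (Subtype.ext (by
    have h1 := hW (i, j) τ
    rw [h, hW (i', j') τ'] at h1
    exact h1.symm))
  subst hii
  simp only [rep, mul_assoc] at h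
  have h2 := mul_left_cancel h
  have hjj : j = j' := by
    fin_cases j <;> fin_cases j'
    · rfl
    · exfalso
      simp only [Fin.zero_eta, Fin.mk_one, Fin.val_zero, Fin.val_one, pow_zero, pow_one,
        one_mul] at h2
      refine P.u_notMem hlam ?_
      rw [show P.u = (τ : G) * (τ' : G)⁻¹ by rw [h2, mul_inv_cancel_right]]
      exact mul_mem τ.2 (inv_mem τ'.2)
    · exfalso
      simp only [Fin.zero_eta, Fin.mk_one, Fin.val_zero, Fin.val_one, pow_zero, pow_one,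
        one_mul] at h2
      refine P.u_notMem hlam ?_
      rw [show P.u = (τ' : G) * (τ : G)⁻¹ by rw [← h2, mul_inv_cancel_right]]
      exact mul_mem τ'.2 (inv_mem τ.2)
    · rfl
  subst hjj
  exact Prod.ext rfl (Subtype.ext (mul_left_cancel h2))

omit hlam in
/-- a conjugation moving an element of `T` onto one with centraliser in `T` normalises `T` -/
theorem exists_rep_of_cent {g a : G} (ha : a ∈ P.T) (hb : g⁻¹ * a * g ∈ P.T)
    (hne : centralizer ({((P.equiv.symm ⟨_, hb⟩).2 : G)} : Set G) ≤ P.T) :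
    ∃ c : Fin 3 × Fin 2, ∃ τ : ↥P.T, g = P.rep c * τ := by
  obtain ⟨⟨x', k'⟩, he⟩ := P.equiv.surjective ⟨_, hb⟩
  rw [← he, MulEquiv.symm_apply_apply] at hne
  have he' : (x' : G) * k' = g⁻¹ * a * g := congrArg Subtype.val he
  obtain ⟨x, hx, k, hk, rfl⟩ := P.exists_eq ha
  have hkk : g⁻¹ * k * g = k' := by
    have h1 : (g⁻¹ * (x * k) * (g⁻¹)⁻¹) ^ (Nat.card ↥P.K + 1) = k' := by
      rw [inv_inv, ← he', P.pow_K x'.2 k'.2]
    rwa [conj_pow, P.pow_K hx hk, inv_inv] at h1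
  have hW : ∀ y ∈ P.W, g⁻¹ * y * g ∈ P.W := by
    intro y hy
    refine P.mem_W_of_sq (hne (mem_centralizer_singleton_iff.2 ?_)) ?_
    · rw [← hkk]
      have hyk := (P.comm y hy k hk).eq
      calc g⁻¹ * y * g * (g⁻¹ * k * g) = g⁻¹ * (y * k) * g := by group
        _ = g⁻¹ * (k * y) * g := by rw [hyk]
        _ = g⁻¹ * k * g * (g⁻¹ * y * g) := by group
    · calc g⁻¹ * y * g * (g⁻¹ * y * g) = g⁻¹ * (y * y) * g := by group
        _ = 1 := by rw [P.mul_self hy]; group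
  have hW' : ∀ y ∈ P.W, g * y * g⁻¹ ∈ P.W := by
    intro y hy
    have hinj : Function.Injective fun z : ↥P.W => (⟨g⁻¹ * z * g, hW z z.2⟩ : ↥P.W) := fun a b h =>
      Subtype.ext (mul_left_cancel (mul_right_cancel (congrArg Subtype.val h)))
    haveI := P.klein
    haveI : Finite ↥P.W := Nat.finite_of_card_ne_zero (by rw [IsKleinFour.card_four]; norm_num)
    obtain ⟨z, hz⟩ := Finite.surjective_of_injective hinj ⟨y, hy⟩
    have hz' : g⁻¹ * (z : G) * g = y := congrArg Subtype.val hz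
    rw [← hz', show g * (g⁻¹ * (z : G) * g) * g⁻¹ = z by group]
    exact z.2
  obtain ⟨i, hi, j, hj, hτ⟩ := P.normaliser g hW'
  exact ⟨(⟨i, hi⟩, ⟨j, hj⟩), ⟨_, hτ⟩, (mul_inv_cancel_left _ _).symm⟩

/-- a conjugation moving an element of `T` into the support normalises `T` -/
theorem exists_rep {g a : G} (ha : a ∈ P.T) (hb : g⁻¹ * a * g ∈ P.T)
    (hne : lam (P.equiv.symm ⟨_, hb⟩).2 ≠ 1) :
    ∃ c : Fin 3 × Fin 2, ∃ τ : ↥P.T, g = P.rep c * τ :=
  P.exists_rep_of_cent ha hb (hlam.cent _ hne)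

/-- `u` commutes with the powers of `w` modulo `T` -/
theorem pow_w_u [Finite G] (i : ℕ) : ∃ τ ∈ P.T, P.w ^ i * P.u = P.u * P.w ^ i * τ := by
  have hwT : ∀ a ∈ P.T, P.w * a * P.w⁻¹ ∈ P.T := fun a ha => by
    have h := P.rep_T (1, 0) ha
    simpa [rep] using h
  obtain ⟨τ1, hτ1, h1⟩ : ∃ τ1 ∈ P.T, P.w * P.u * P.w⁻¹ = P.u * τ1 := by
    set g := P.w * P.u * P.w⁻¹ with hg
    have hfix : ∀ x ∈ P.W, g * x * g⁻¹ = x := by
      intro x hx
      have hx' : P.w⁻¹ * x * P.w ∈ P.W := by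
        have hinj : Function.Injective fun z : ↥P.W => (⟨P.w * z * P.w⁻¹, P.w_W z z.2⟩ : ↥P.W) :=
          fun a b h => Subtype.ext (mul_left_cancel (mul_right_cancel (congrArg Subtype.val h)))
        obtain ⟨z, hz⟩ := Finite.surjective_of_injective hinj ⟨x, hx⟩
        have hz' : P.w * (z : G) * P.w⁻¹ = x := congrArg Subtype.val hz
        rw [← hz', show P.w⁻¹ * (P.w * (z : G) * P.w⁻¹) * P.w = z by group]
        exact z.2
      rw [hg, show P.w * P.u * P.w⁻¹ * x * (P.w * P.u * P.w⁻¹)⁻¹ =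
        P.w * (P.u * (P.w⁻¹ * x * P.w) * P.u⁻¹) * P.w⁻¹ by group, P.u_W _ hx']
      group
    obtain ⟨i, hi, j, hj, hτ⟩ := P.normaliser g fun x hx => by rw [hfix x hx]; exact hx
    obtain ⟨x, hx⟩ := P.exists_ne_W hlam
    set τ := (P.w ^ i * P.u ^ j)⁻¹ * g with hτdef
    have hge : g = P.w ^ i * P.u ^ j * τ := by rw [hτdef, mul_inv_cancel_left]
    have hi0 : i = 0 := by
      refine P.w_notMem hlam hi x.2 (fun h => hx (Subtype.ext h)) ?_
      have hu : ∀ n < 2, P.u ^ n * (x : G) * (P.u ^ n)⁻¹ = x := fun n hn => by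
        interval_cases n
        · simp
        · simpa using P.u_W x x.2
      have h := hfix x x.2
      rwa [hge, show P.w ^ i * P.u ^ j * τ * (x : G) * (P.w ^ i * P.u ^ j * τ)⁻¹ =
        P.w ^ i * (P.u ^ j * (τ * x * τ⁻¹) * (P.u ^ j)⁻¹) * (P.w ^ i)⁻¹ by group,
        (P.comm_T_W hτ x.2).eq, mul_inv_cancel_right, hu j hj] at h
    subst hi0
    interval_cases j
    · exfalso
      rw [pow_zero, pow_zero, one_mul, one_mul] at hge
      refine P.u_notMem hlam ?_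
      have hgT : g ∈ P.T := hge ▸ hτ
      have hinj : Function.Injective fun a : ↥P.T => (⟨P.w * a * P.w⁻¹, hwT a a.2⟩ : ↥P.T) :=
        fun a b h => Subtype.ext (mul_left_cancel (mul_right_cancel (congrArg Subtype.val h)))
      obtain ⟨z, hz⟩ := Finite.surjective_of_injective hinj ⟨g, hgT⟩
      have hz' : P.w * (z : G) * P.w⁻¹ = P.w * P.u * P.w⁻¹ := congrArg Subtype.val hz
      rw [← mul_left_cancel (mul_right_cancel hz')]
      exact z.2
    · exact ⟨τ, hτ, by rw [hge, pow_zero, one_mul, pow_one]⟩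
  induction i with
  | zero => exact ⟨1, one_mem _, by simp⟩
  | succ n ih =>
    obtain ⟨τ, hτ, hn⟩ := ih
    have hpow : ∀ (n : ℕ) (a : G), a ∈ P.T → (P.w ^ n)⁻¹ * a * P.w ^ n ∈ P.T := by
      intro n
      induction n with
      | zero => intro a ha; simpa using ha
      | succ m ihm =>
        intro a ha
        have hinj : Function.Injective fun z : ↥P.T => (⟨P.w * z * P.w⁻¹, hwT z z.2⟩ : ↥P.T) :=
          fun a b h => Subtype.ext (mul_left_cancel (mul_right_cancel (congrArg Subtype.val h)))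
        obtain ⟨z, hz⟩ := Finite.surjective_of_injective hinj ⟨a, ha⟩
        have hz' : P.w * (z : G) * P.w⁻¹ = a := congrArg Subtype.val hz
        rw [← hz', pow_succ', show (P.w * P.w ^ m)⁻¹ * (P.w * (z : G) * P.w⁻¹) * (P.w * P.w ^ m) =
          (P.w ^ m)⁻¹ * z * P.w ^ m by group]
        exact ihm z z.2
    refine ⟨(P.w ^ (n + 1))⁻¹ * τ1 * P.w ^ (n + 1) * τ, mul_mem (hpow _ _ hτ1) hτ, ?_⟩
    calc P.w ^ (n + 1) * P.u = P.w * (P.w ^ n * P.u) := by rw [pow_succ', mul_assoc]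
      _ = P.w * (P.u * P.w ^ n * τ) := by rw [hn]
      _ = (P.w * P.u * P.w⁻¹) * (P.w * P.w ^ n) * τ := by group
      _ = P.u * τ1 * (P.w * P.w ^ n) * τ := by rw [h1]
      _ = P.u * P.w ^ (n + 1) * ((P.w ^ (n + 1))⁻¹ * τ1 * P.w ^ (n + 1) * τ) := by
        rw [pow_succ']; group

/-- the `u`-translates are the inverses -/
theorem lam_act_one [Finite G] (i : Fin 3) (k : ↥P.K) :
    lam (P.actK (i, 1) k) = (lam (P.actK (i, 0) k))⁻¹ := by
  obtain ⟨τ, hτ, h⟩ := P.pow_w_u hlam (i : ℕ)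
  have hm : τ * (k : G) * τ⁻¹ ∈ P.K := P.conj_K hτ k.2
  have e : P.actK (i, 1) k =
      ⟨P.u * (P.actK (i, 0) ⟨_, hm⟩ : G) * P.u⁻¹, P.u_K _ (P.actK (i, 0) ⟨_, hm⟩).2⟩ := by
    apply Subtype.ext
    simp only [actK_coe, rep, Fin.val_one, pow_one, Fin.val_zero, pow_zero, mul_one, h]
    group
  rw [e, hlam.inv]
  congr 1
  have hmu : lam (P.actK (i, 0) ⟨_, hm⟩) = (lam.comp (P.actK (i, 0))) ⟨_, hm⟩ := rfl
  rw [hmu, P.hom_conj (lam.comp (P.actK (i, 0))) hτ k]
  rfl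

theorem lam_act_add (i d : ℕ) (hid : i + d < 3) (k : ↥P.K) :
    lam (P.actK (⟨i + d, hid⟩, 0) k) =
      lam (P.actK (⟨i, by omega⟩, 0) (P.actK (⟨d, by omega⟩, 0) k)) := by
  congr 1
  apply Subtype.ext
  simp only [actK_coe, rep, Fin.val_zero, pow_zero, mul_one, pow_add]
  group

theorem lam_pow_three (k : ↥P.K) :
    lam ⟨P.w * (P.w * (P.w * k * P.w⁻¹) * P.w⁻¹) * P.w⁻¹,
      P.w_K _ (P.w_K _ (P.w_K k k.2))⟩ = lam k := by
  have h := P.hom_conj lam (show P.w ^ 3 ∈ P.T from P.w_cube) k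
  refine Eq.trans (congrArg lam (Subtype.ext ?_)) h
  show _ = P.w ^ 3 * (k : G) * (P.w ^ 3)⁻¹
  simp only [pow_succ, pow_zero, one_mul, mul_inv_rev, mul_assoc]

/-- only the trivial translate fixes `lam` or inverts it -/
theorem lam_w_ne [Finite G] (d : Fin 3) :
    (lam.comp (P.actK (d, 0)) = lam ↔ d = 0) ∧ lam.comp (P.actK (d, 0)) ≠ lam⁻¹ := by
  let ω : ↥P.K → ↥P.K := fun k => ⟨P.w * k * P.w⁻¹, P.w_K k k.2⟩
  have hw3 : ∀ k, lam (ω (ω (ω k))) = lam k := fun k => P.lam_pow_three hlam k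
  have a0 : ∀ k, P.actK (0, 0) k = k := fun k => Subtype.ext (by simp [rep])
  have a1 : ∀ k, P.actK (1, 0) k = ω k := fun k => Subtype.ext (by simp [rep, ω])
  have a2 : ∀ k, P.actK (2, 0) k = ω (ω k) := fun k => Subtype.ext (by
    simp only [actK_coe, rep, ω, Fin.val_two, Fin.val_zero, pow_zero, mul_one, pow_two]
    group)
  obtain ⟨k0, hk0⟩ := hlam.move
  have hk0' : lam (ω k0) ≠ lam k0 := hk0
  refine ⟨⟨fun h => ?_, fun h => by rw [h]; exact MonoidHom.ext fun k => by simp [a0]⟩, fun h => ?_⟩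
  · have hK : ∀ k, lam (P.actK (d, 0) k) = lam k := fun k => DFunLike.congr_fun h k
    fin_cases d
    · rfl
    · exact absurd (by simpa [a1] using hK k0) hk0'
    · refine absurd ?_ hk0'
      have := hK (ω k0)
      simp only [Fin.reduceFinMk, a2, hw3] at this
      exact this.symm
  · have hK : ∀ k, lam (P.actK (d, 0) k) = (lam k)⁻¹ := fun k => by
      have := DFunLike.congr_fun h k
      simpa using this
    fin_cases d
    · have h1 : ∀ k, lam k = 1 := fun k => P.eq_one_of_eq_inv hlam (by simpa [a0] using hK k)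
      exact hk0' (by rw [h1, h1])
    · have h1 : ∀ k, lam (ω k) = (lam k)⁻¹ := fun k => by simpa [a1] using hK k
      have h2 : ∀ k, lam k = 1 := fun k => P.eq_one_of_eq_inv hlam (by
        have := h1 (ω (ω k)); rwa [hw3, h1, h1, inv_inv] at this)
      exact hk0' (by rw [h2, h2])
    · have h1 : ∀ k, lam (ω (ω k)) = (lam k)⁻¹ := fun k => by simpa [a2] using hK k
      have h2 : ∀ k, lam k = 1 := fun k => P.eq_one_of_eq_inv hlam (by
        have e1 := h1 (ω k)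
        rw [hw3] at e1
        have e2 := h1 (ω (ω k))
        rw [hw3, h1 k, inv_inv] at e2
        rwa [e2] at e1)
      exact hk0' (by rw [h2, h2])

end ExtPair

end Cfsg.Agent.H40.WardE
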