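import Cfsg.Agent.H40.WardE.ExtPair
import Cfsg.Agent.H40.WardE.Psi

/-!
The four characters of the four group, indexed by its elements (`1` gives the trivial one).
-/

set_option autoImplicit false
set_option linter.unusedSectionVars false
set_option linter.style.haveILetI false

namespace Cfsg.Agent.H40.WardE

open Subgroup Cfsg Cfsg.Agent Cfsg.Agent.CharBasic Cfsg.Agent.CharInduce
open scoped ComplexConjugate

universe u

variable {G : Type u} [Group G]

namespace ExtPair

variable (P : ExtPair G)

theorem sgn_ne_zero (v x : ↥P.W) : P.sgn v x ≠ 0 := by unfold sgn; split_ifs <;> simp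

/-- the character of `W` with kernel `{1, v}`, the trivial one for `v = 1` -/
noncomputable def sg (v : ↥P.W) : ↥P.W →* ℂˣ where
  toFun x := open Classical in if v = 1 then 1 else Units.mk0 (P.sgn v x) (P.sgn_ne_zero v x)
  map_one' := by
    by_cases h : v = 1
    · simp [h]
    · simp only [h, if_false]
      exact Units.ext (P.sgn_one v)
  map_mul' x y := by
    by_cases h : v = 1
    · simp [h]
    · simp only [h, if_false]
      exact Units.ext (P.sgn_mul v x y h)

theorem sg_one : P.sg 1 = 1 := MonoidHom.ext fun x => by simp [sg]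

theorem sg_val {v : ↥P.W} (hv : v ≠ 1) (x : ↥P.W) : (P.sg v x : ℂ) = P.sgn v x := by
  simp [sg, hv]

theorem sg_fun {v : ↥P.W} (hv : v ≠ 1) : (fun x => (P.sg v x : ℂ)) = P.sgn v :=
  funext fun x => P.sg_val hv x

theorem sg_fun_one : (fun x => (P.sg 1 x : ℂ)) = fun _ => 1 := funext fun x => by
  rw [P.sg_one]; simp

theorem sg_self (x : ↥P.W) : (P.sg x x : ℂ) = 1 := by
  by_cases hx : x = 1
  · simp [hx, P.sg_one]
  · simp [P.sg_val hx, sgn]

theorem sg_eq (v x : ↥P.W) :
    (P.sg v x : ℂ) = open Classical in if v = 1 ∨ x = 1 ∨ x = v then 1 else -1 := by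
  classical
  by_cases hv : v = 1
  · simp [hv, P.sg_one]
  · simp [P.sg_val hv, sgn, hv]

/-- the sum of the four characters -/
theorem sum_sg [Fintype ↥P.W] (x : ↥P.W) :
    ∑ v : ↥P.W, (P.sg v x : ℂ) = open Classical in if x = 1 then 4 else 0 := by
  classical
  haveI := P.klein
  have hcard : Fintype.card ↥P.W = 4 := by rw [← Nat.card_eq_fintype_card, IsKleinFour.card_four]
  simp only [P.sg_eq]
  split_ifs with hx
  · simp [hx, hcard]
  · simp only [hx, false_or]
    rw [Finset.sum_ite, Finset.sum_const, Finset.sum_const]
    have h1 : (Finset.univ.filter fun v : ↥P.W => v = 1 ∨ x = v) = {1, x} := by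
      ext v; simp [eq_comm (a := x)]
    have h2 := Finset.card_filter_add_card_filter_not (s := (Finset.univ : Finset ↥P.W))
      (fun v => v = 1 ∨ x = v)
    have h3 : ({1, x} : Finset ↥P.W).card = 2 := Finset.card_pair (Ne.symm hx)
    rw [h1, h3, Finset.card_univ, hcard] at h2
    rw [h1, h3, show (Finset.univ.filter fun v : ↥P.W => ¬(v = 1 ∨ x = v)).card = 2 by omega]
    norm_num

/-- orthogonality -/
theorem classInner_sg [Finite G] [Fintype ↥P.W] (v v' : ↥P.W) :
    classInner (fun x => (P.sg v x : ℂ)) (fun x => (P.sg v' x : ℂ)) =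
      open Classical in if v = v' then 1 else 0 := by
  classical
  rw [classInner_hom]
  have hiff : P.sg v = P.sg v' ↔ v = v' := by
    refine ⟨fun h => ?_, fun h => h ▸ rfl⟩
    by_contra hne
    by_cases hv : v = 1
    · subst hv
      have hv' : v' ≠ 1 := Ne.symm hne
      obtain ⟨y, hy⟩ : ∃ y : ↥P.W, P.sgn v' y ≠ 1 := by
        by_contra hc
        push Not at hc
        have h0 := P.sum_sgn hv'
        simp [hc] at h0
      have := congrArg Units.val (DFunLike.congr_fun h y)
      rw [P.sg_val hv', P.sg_one] at this
      exact hy (by simpa using this.symm)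
    · have := congrArg Units.val (DFunLike.congr_fun h v)
      rw [P.sg_self, P.sg_eq] at this
      split_ifs at this with hc
      · rcases hc with rfl | hc | hc
        · obtain ⟨y, hy⟩ : ∃ y : ↥P.W, P.sgn v y ≠ 1 := by
            by_contra hc
            push Not at hc
            have h0 := P.sum_sgn hv
            simp [hc] at h0
          have h' := congrArg Units.val (DFunLike.congr_fun h y)
          rw [P.sg_val hv, P.sg_one] at h'
          exact hy (by simpa using h')
        · exact hv hc
        · exact hne hc
      · norm_num at this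
  simp only [hiff]

end ExtPair

end Cfsg.Agent.H40.WardE
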