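import Cfsg.Agent.H40.WardE.Count
import Cfsg.Agent.H40.WardE.Sign
import Cfsg.Agent.H40.WardE.Slack

/-!
The twisted lattices `l ↦ Ind(sg v ⊗ tw l (1 - lam))` and the rows of the differences: products.
-/

set_option autoImplicit false
set_option linter.unusedSectionVars false
set_option linter.style.haveILetI false

namespace Cfsg.Agent.H40.WardE

open Subgroup Cfsg Cfsg.Agent Cfsg.Agent.CharBasic Cfsg.Agent.CharInduce Cfsg.Agent.H84.Ward
open Cfsg.Agent.H64.Ward (dot)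
open scoped ComplexConjugate Classical

universe u v w

variable {G : Type u} [Group G]

namespace ExtPair

variable (P : ExtPair G)

theorem sum_sg_orbit [Finite G] {lam : ↥P.K →* ℂˣ} (hlam : P.Adapted lam) (v : ↥P.W) {x0 : ↥P.W}
    (hx0 : x0 ≠ 1) :
    ∑ i : Fin 3, (P.sg v (P.actW (i, 0) x0) : ℂ) = if v = 1 then 3 else -1 := by
  split_ifs with hv
  · simp [hv, P.sg_one]
  · simp only [P.sg_val hv]
    exact P.sum_sgn_orbit hlam hv hx0

theorem ind_sub [Fintype G] (s s' : ↥P.W → ℂ) (μ lam : ↥P.K →* ℂˣ) :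
    P.ind (fun x => s x - s' x) μ lam = P.ind s μ lam - P.ind s' μ lam := by
  funext g
  simp only [ind, Pi.sub_apply, indFun_apply, ← mul_sub, ← Finset.sum_sub_distrib]
  congr 1
  refine Finset.sum_congr rfl fun y _ => ?_
  by_cases hy : y⁻¹ * g * y ∈ P.T
  · simp only [extendByZero_of_mem _ hy, phi, sub_mul]
  · simp only [extendByZero_of_not_mem _ hy, sub_zero]

/-- the row of `Ind(sg v ⊗ μ (1 - lam))` -/
noncomputable def lcoef [Fintype G] (v : ↥P.W) (μ lam : ↥P.K →* ℂˣ) (χ : IrrCharacter G) : ℤ :=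
  (CharInduce.IsGen.exists_int_coeff (P.ind_isGen (P.sg v) μ lam) (IsIrr.isCharacter χ.2)).choose

theorem lcoef_spec [Fintype G] (v : ↥P.W) (μ lam : ↥P.K →* ℂˣ) (χ : IrrCharacter G) :
    classInner (P.ind (fun x => (P.sg v x : ℂ)) μ lam) (χ : G → ℂ) = P.lcoef v μ lam χ :=
  (CharInduce.IsGen.exists_int_coeff (P.ind_isGen (P.sg v) μ lam)
    (IsIrr.isCharacter χ.2)).choose_spec

theorem lcoef_eq_hcoef [Fintype G] {v : ↥P.W} (hv : v ≠ 1) (μ lam : ↥P.K →* ℂˣ) :
    P.lcoef v μ lam = P.hcoef hv μ lam := funext fun χ => by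
  have h := (P.lcoef_spec v μ lam χ).symm
  rw [P.sg_fun hv, show P.ind (P.sgn v) μ lam = P.H v μ lam from rfl, P.hcoef_spec hv] at h
  exact_mod_cast h

theorem lcoef_eq_ucoef [Fintype G] (μ lam : ↥P.K →* ℂˣ) :
    P.lcoef 1 μ lam = P.ucoef μ lam := funext fun χ => by
  have h := (P.lcoef_spec 1 μ lam χ).symm
  rw [P.sg_fun_one, show P.ind (fun _ => (1 : ℂ)) μ lam = P.U μ lam from rfl, P.ucoef_spec] at h
  exact_mod_cast h

theorem lcoef_deg [Fintype G] (v : ↥P.W) (μ lam : ↥P.K →* ℂˣ) :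
    dot (P.lcoef v μ lam) (fun χ => (charDegree (χ : G → ℂ) : ℤ)) = 0 := by
  have h := sum_row_apply (P.ind_isClass _ μ lam) (P.lcoef_spec v μ lam) 1
  rw [P.ind_one] at h
  simp only [(H83.charDegree_eq (Subtype.property (_ : IrrCharacter G))).1] at h
  unfold H64.Ward.dot
  exact_mod_cast h

end ExtPair

namespace Twists

variable {P : ExtPair G} {Λ : Type w} [Fintype Λ] (S : Twists P Λ) {lam : ↥P.K →* ℂˣ}

/-- some translate of `k` avoids the conjugates of the field part -/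
def Off (k : ↥P.K) : Prop := ∃ i : Fin 3, ∀ g : ↥P.K, g * P.actK (i, 0) k * g⁻¹ ∉ S.Fo

theorem tw_isFixed (l : Λ) : P.Fixed (S.tw l) := S.tw_fixed l

variable (hlamFo : ∀ z ∈ S.Fo, lam z = 1)
include hlamFo

theorem off_of_lam (k : ↥P.K) (h : ∃ i : Fin 3, lam (P.actK (i, 0) k) ≠ 1) : S.Off k := by
  obtain ⟨i, hi⟩ := h
  refine ⟨i, fun g hg => hi ?_⟩
  have h1 := hlamFo _ hg
  rwa [map_mul, map_mul, map_inv, mul_comm (lam g), mul_inv_cancel_right] at h1

variable [Fintype G] (hlam : P.Adapted lam)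
include hlam

/-- separation of two lattices -/
theorem sep (l l' : Λ) (c : Fin 3 × Fin 2)
    (h : lam.comp (P.actK c) * lam⁻¹ = S.tw l' * (S.tw l)⁻¹) : c = 0 := by
  by_contra hc
  refine S.move_ne (S.res0_ne_one lam hlamFo (P.lam_one_ne hlam)) hc 1 (MonoidHom.ext fun t => ?_)
  have h1 := DFunLike.congr_fun h (t : ↥P.K)
  simp only [MonoidHom.mul_apply, MonoidHom.inv_apply, MonoidHom.comp_apply,
    S.tw_T0 _ t t.2, inv_one, mul_one, mul_inv_eq_one] at h1
  simpa [res0, S.move_coe] using h1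

/-- class functions equal to `c · tw l'` on the coset, where the support meets -/
theorem classInner_ind_tw (s : ↥P.W → ℂ) (l l' : Λ) {f : G → ℂ} (hf : IsClassFunction G f)
    {x0 : ↥P.W} (hx0 : x0 ≠ 1) (h0 : ∀ k : ↥P.K, lam k ≠ 1 → s 1 * conj (f (k : G)) = 0) {c : ℂ}
    (hg : ∀ k : ↥P.K, S.Off k → f ((x0 : G) * k) = c * (S.tw l' k : ℂ)) :
    classInner (P.ind s (S.tw l) lam) f =
      if l = l' then conj c / 4 * ∑ i : Fin 3, s (P.actW (i, 0) x0) else 0 := by
  haveI : Fintype ↥P.W := Fintype.ofFinite _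
  haveI : Fintype ↥P.K := Fintype.ofFinite _
  rw [P.classInner_ind s _ lam hf, P.sum_W hlam hx0]
  have h1 : ∀ k : ↥P.K, s 1 * ((S.tw l k : ℂ) * (1 - (lam k : ℂ))) *
      conj (f (((1 : ↥P.W) : G) * k)) = 0 := fun k => by
    by_cases hk : lam k = 1
    · simp [hk]
    · rw [OneMemClass.coe_one, one_mul, mul_right_comm, h0 k hk, zero_mul]
  rw [Finset.sum_eq_zero fun k _ => h1 k, zero_add]
  have hν := P.fixed_mul_inv (S.tw_isFixed l) (S.tw_isFixed l')
  have hi : ∀ i : Fin 3, ∑ k : ↥P.K, s (P.actW (i, 0) x0) * ((S.tw l k : ℂ) * (1 - (lam k : ℂ))) *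
      conj (f ((P.actW (i, 0) x0 : G) * k)) =
      s (P.actW (i, 0) x0) * conj c * if l = l' then (Nat.card ↥P.K : ℂ) else 0 := by
    intro i
    have hb : Function.Bijective (P.actK (i, 0)) :=
      ⟨P.actK_injective _, Finite.surjective_of_injective (P.actK_injective _)⟩
    rw [← Fintype.sum_bijective _ hb (fun k => s (P.actW (i, 0) x0) *
      ((((S.tw l * (S.tw l')⁻¹ : ↥P.K →* ℂˣ) k : ℂ) -
        ((lam.comp (P.actK (i, 0)) * (S.tw l' * (S.tw l)⁻¹)⁻¹ : ↥P.K →* ℂˣ) k : ℂ)) * conj c)) _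
      fun k => ?_]
    · rw [← Finset.mul_sum, ← Finset.sum_mul, Finset.sum_sub_distrib, P.sum_hom, P.sum_hom,
        if_neg fun e => P.fixed_ne_act hlam hν (i, 0) (P.hom_mul_inv_eq_one_iff.1 e)]
      simp only [P.hom_mul_inv_eq_one_iff, S.tw_injective.eq_iff]
      ring
    · have e := DFunLike.congr_fun (S.tw_fixed l (i, 0)) k
      simp only [MonoidHom.comp_apply] at e
      by_cases hk : lam (P.actK (i, 0) k) = 1
      · simp only [MonoidHom.mul_apply, MonoidHom.inv_apply, MonoidHom.comp_apply, hk, e,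
          Units.val_mul, Units.val_inv_eq_inv_val, Units.val_one, mul_inv_rev, inv_inv]
        ring
      · have hconj : f ((P.actW (i, 0) x0 : G) * (P.actK (i, 0) k : G)) =
            c * (S.tw l' k : ℂ) := by
          rw [← hg k (S.off_of_lam hlamFo k ⟨i, hk⟩), ← hf ((x0 : G) * k) (P.rep (i, 0)),
            ExtPair.actW_coe, ExtPair.actK_coe]
          congr 1
          group
        have hn := norm_hom (S.tw l') k
        have hmul : (S.tw l' k : ℂ) * conj (S.tw l' k : ℂ) = 1 := by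
          rw [Complex.mul_conj', hn]; norm_num
        rw [hconj, map_mul, e, eq_inv_of_mul_eq_one_right hmul]
        simp only [MonoidHom.mul_apply, MonoidHom.inv_apply, MonoidHom.comp_apply,
          Units.val_mul, Units.val_inv_eq_inv_val, mul_inv_rev, inv_inv]
        ring
  simp only [hi]
  have hk : (Nat.card ↥P.K : ℂ) ≠ 0 := by simp
  split_ifs
  · rw [← Finset.sum_mul, ← Finset.sum_mul]
    field_simp
  · simp

/-- two lattices are orthogonal -/
theorem lcoef_cross (v v' : ↥P.W) {l l' : Λ} (h : l ≠ l') :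
    dot (P.lcoef v (S.tw l) lam) (P.lcoef v' (S.tw l') lam) = 0 := by
  haveI : Fintype ↥P.W := Fintype.ofFinite _
  refine sum_row_mul (P.ind_isClass _ _ lam) (P.lcoef_spec v _ lam) (P.lcoef_spec v' _ lam) ?_
  rw [P.classInner_ind_ind hlam (S.tw_isFixed l) (S.tw_isFixed l') _ _ (S.sep hlamFo hlam l l'),
    if_neg fun e => h (S.tw_injective e)]
  simp

/-- the rows on a row read off the coset -/
theorem lcoef_sub_apply (v v' : ↥P.W) (l l' : Λ) {χ : IrrCharacter G} {x0 : ↥P.W} (hx0 : x0 ≠ 1)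
    {c : ℤ} (hg : ∀ k : ↥P.K, S.Off k → (χ : G → ℂ) ((x0 : G) * k) = c * (S.tw l' k : ℂ)) :
    P.lcoef v (S.tw l) lam χ - P.lcoef v' (S.tw l) lam χ =
      if l = l' then c * ((if v = 1 then 1 else 0) - if v' = 1 then 1 else 0) else 0 := by
  have h := S.classInner_ind_tw hlamFo hlam (fun x => (P.sg v x : ℂ) - (P.sg v' x : ℂ)) l l'
    (IsIrr.isClassFunction χ.2) hx0 (fun k _ => by simp) (c := (c : ℂ)) hg
  rw [P.ind_sub, classInner_sub_left, P.lcoef_spec, P.lcoef_spec, Finset.sum_sub_distrib,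
    P.sum_sg_orbit hlam v hx0, P.sum_sg_orbit hlam v' hx0, map_intCast] at h
  have h2 : ((P.lcoef v (S.tw l) lam χ - P.lcoef v' (S.tw l) lam χ : ℤ) : ℂ) =
      ((if l = l' then c * ((if v = 1 then 1 else 0) - if v' = 1 then 1 else 0) else 0 : ℤ) : ℂ) := by
    push_cast
    rw [h]
    split_ifs <;> ring
  exact_mod_cast h2

variable {L : Type v} [Group L] {D : TData G L} [Fintype L]

/-- a lattice against a section row -/
theorem lcoef_F (v : ↥P.W) (l l' : Λ) {θ : L → ℂ} (h : VanEven θ) {x0 : ↥P.W}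
    (hx0 : (x0 : G) = D.t) {ι : ↥P.K →* L} (hι : ∀ k : ↥P.K, D.emb (1, ι k) = (k : G))
    (hodd : ∀ k : ↥P.K, Odd (orderOf (ι k))) {c m : ℤ}
    (hθ : ∀ k : ↥P.K, S.Off k → θ (ι k) = c * (S.tw l' k : ℂ))
    (hm : 2 * m = if l = l' then c * (if v = 1 then 3 else -1) else 0) :
    dot (P.lcoef v (S.tw l) lam) (fun χ => D.coef h χ) = m := by
  have hx1 : x0 ≠ 1 := fun e => D.t_ne_one (by rw [← hx0, e]; rfl)
  refine sum_row_mul (P.ind_isClass _ _ lam) (P.lcoef_spec v _ lam) (D.coef_spec h) ?_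
  rw [S.classInner_ind_tw hlamFo hlam _ l l' (D.isClass_F θ) hx1
    (fun k _ => by simp [P.F_apply_K h k]) (c := 2 * (c : ℂ))
    (fun k hk => by rw [← P.emb_section hx0 hι, D.F_emb h (hodd k), hθ k hk, mul_assoc]),
    P.sum_sg_orbit hlam v hx1]
  have hm' : 2 * (m : ℂ) = if l = l' then (c : ℂ) * (if v = 1 then 3 else -1) else 0 := by
    have h2 := congrArg (fun z : ℤ => (z : ℂ)) hm
    push_cast at h2
    exact h2
  simp only [map_mul, map_ofNat, map_intCast]
  split_ifs at hm' ⊢ <;> linear_combination -hm' / 2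

end Twists

end Cfsg.Agent.H40.WardE
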