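import Cfsg.Agent.H40.WardE.DiffRows

/-!
Sums over the twists: only `W × T₀` is seen.
-/

set_option autoImplicit false
set_option linter.unusedSectionVars false
set_option linter.style.haveILetI false

namespace Cfsg.Agent.H40.WardE

open Subgroup Cfsg Cfsg.Agent Cfsg.Agent.CharBasic Cfsg.Agent.CharInduce
open scoped ComplexConjugate Classical

universe u w

variable {G : Type u} [Group G]

namespace Twists

variable {P : ExtPair G} {Λ : Type w} [Fintype Λ] (S : Twists P Λ) [Fintype ↥P.W] [Fintype ↥S.T0]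

/-- `⟨sg v ⊗ (1 - η), χ⟩` on `W × T₀` -/
noncomputable def dsum (v : ↥P.W) (η : ↥S.T0 →* ℂˣ) (f : G → ℂ) : ℂ :=
  ((4 : ℂ) * Nat.card ↥S.T0)⁻¹ * ∑ x : ↥P.W, (P.sg v x : ℂ) *
    ∑ t : ↥S.T0, (1 - (η t : ℂ)) * conj (f ((x : G) * ((t : ↥P.K) : G)))

variable [Fintype G] [Fintype ↥P.K]

/-- sums of twisted rows -/
theorem sum_indC (v : ↥P.W) (F : ↥P.K → ℂ) {f : G → ℂ} (hf : IsClassFunction G f) :
    ∑ l : Λ, classInner (P.indC (fun x => (P.sg v x : ℂ)) (fun k => (S.tw l k : ℂ) * F k)) f =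
      ((4 : ℂ) * Nat.card ↥S.T0)⁻¹ * ∑ x : ↥P.W, (P.sg v x : ℂ) *
        ∑ t : ↥S.T0, F t * conj (f ((x : G) * ((t : ↥P.K) : G))) := by
  simp only [P.classInner_indC _ _ hf, ← Finset.mul_sum]
  rw [Finset.sum_comm]
  have h1 : ∀ x : ↥P.W, ∑ l : Λ, ∑ k : ↥P.K,
      (P.sg v x : ℂ) * ((S.tw l k : ℂ) * F k) * conj (f ((x : G) * k)) =
      (Fintype.card Λ : ℂ) * ((P.sg v x : ℂ) *
        ∑ t : ↥S.T0, F t * conj (f ((x : G) * ((t : ↥P.K) : G)))) := by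
    intro x
    have e : ∀ (l : Λ) (k : ↥P.K), (P.sg v x : ℂ) * ((S.tw l k : ℂ) * F k) * conj (f ((x : G) * k)) =
        (S.tw l k : ℂ) * ((P.sg v x : ℂ) * F k) * conj (f ((x : G) * k)) := fun l k => by ring
    simp only [e]
    rw [S.sum_twist (fun k => (P.sg v x : ℂ) * F k) (fun k => conj (f ((x : G) * k)))]
    simp only [mul_assoc, ← Finset.mul_sum]
    rw [Finset.sum_subtype (Finset.univ.filter (· ∈ S.T0)) (p := fun k => k ∈ S.T0)
      (fun k => by simp) (fun k => F k * conj (f ((x : G) * k)))]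
  simp only [h1, ← Finset.mul_sum]
  have hK : (Fintype.card Λ : ℂ) * Nat.card ↥S.T0 = Nat.card ↥P.K := by exact_mod_cast S.card_tw
  have hΛ : (Fintype.card Λ : ℂ) ≠ 0 := by exact_mod_cast S.card_twist_pos.ne'
  rw [← mul_assoc, ← hK]
  congr 1
  have hT : (Nat.card ↥S.T0 : ℂ) ≠ 0 := by simp
  field_simp

/-- the lattices summed over the twists -/
theorem sum_lcoef (v : ↥P.W) (lam : ↥P.K →* ℂˣ) (χ : IrrCharacter G) :
    ((∑ l : Λ, P.lcoef v (S.tw l) lam χ : ℤ) : ℂ) = S.dsum v (S.res0 lam) (χ : G → ℂ) := by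
  push_cast
  simp only [← P.lcoef_spec, P.ind_eq_indC]
  rw [S.sum_indC v _ (IsIrr.isClassFunction χ.2)]
  rfl

/-- the differences summed over the twists -/
theorem sum_ncoef (v : ↥P.W) (η : ↥S.T0 →* ℂˣ) (lam : ↥P.K →* ℂˣ) (χ : IrrCharacter G) :
    ((∑ l : Λ, S.ncoef v η lam l χ : ℤ) : ℂ) = ((S.M η).index : ℂ) *
      (S.dsum v (S.res0 lam) (χ : G → ℂ) - S.dsum v η (χ : G → ℂ)) := by
  have hf := IsIrr.isClassFunction χ.2
  push_cast
  simp only [← S.ncoef_spec, dind]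
  have e : ∀ l, S.diff η lam l = fun k => (S.tw l k : ℂ) *
      psi (S.M η) (S.ext η) (lam.comp (S.M η).subtype) k := fun l => funext (S.diff_eq η lam l)
  simp only [e]
  rw [S.sum_indC v _ hf, dsum, dsum, ← mul_sub, ← Finset.sum_sub_distrib, mul_left_comm,
    Finset.mul_sum _ _ ((S.M η).index : ℂ)]
  congr 1
  refine Finset.sum_congr rfl fun x _ => ?_
  rw [← mul_sub, mul_left_comm ((S.M η).index : ℂ)]
  congr 1
  rw [← Finset.sum_sub_distrib, Finset.mul_sum _ _ ((S.M η).index : ℂ)]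
  -- the induced function on `T₀`
  have hψ : ∀ t : ↥S.T0, psi (S.M η) (S.ext η) (lam.comp (S.M η).subtype) (t : ↥P.K) =
      (Nat.card ↥(S.M η) : ℂ)⁻¹ * ∑ g : ↥P.K,
        ((η ⟨g⁻¹ * t * g, by simpa using S.conj_mem t.2 g⁻¹⟩ : ℂ) - (lam (t : ↥P.K) : ℂ)) := by
    intro t
    rw [psi, indFun_apply]
    congr 1
    refine Finset.sum_congr rfl fun g _ => ?_
    have hm : g⁻¹ * (t : ↥P.K) * g ∈ S.T0 := by simpa using S.conj_mem t.2 g⁻¹
    rw [extendByZero_of_mem _ (S.T0_le_M η hm), S.ext_T0 η ⟨_, hm⟩]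
    simp only [MonoidHom.comp_apply, Subgroup.coe_subtype, map_mul, map_inv]
    rw [mul_comm _ (lam (t : ↥P.K)), inv_mul_cancel_right]
  simp only [hψ, mul_assoc ((Nat.card ↥(S.M η) : ℂ)⁻¹), Finset.sum_mul, ← Finset.mul_sum]
  rw [Finset.sum_comm]
  have hre : ∀ g : ↥P.K, ∑ t : ↥S.T0,
      ((η ⟨g⁻¹ * t * g, by simpa using S.conj_mem t.2 g⁻¹⟩ : ℂ) - (lam (t : ↥P.K) : ℂ)) *
        conj ((χ : G → ℂ) ((x : G) * ((t : ↥P.K) : G))) =
      ∑ t : ↥S.T0, ((η t : ℂ) - (lam (t : ↥P.K) : ℂ)) *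
        conj ((χ : G → ℂ) ((x : G) * ((t : ↥P.K) : G))) := by
    intro g
    let e : ↥S.T0 ≃ ↥S.T0 :=
      { toFun := fun t => ⟨g⁻¹ * t * g, by simpa using S.conj_mem t.2 g⁻¹⟩
        invFun := fun t => ⟨g * t * g⁻¹, S.conj_mem t.2 g⟩
        left_inv := fun t => Subtype.ext (show g * (g⁻¹ * t * g) * g⁻¹ = (t : ↥P.K) by group)
        right_inv := fun t => Subtype.ext (show g⁻¹ * (g * t * g⁻¹) * g = (t : ↥P.K) by group) }
    refine Fintype.sum_equiv e _ _ fun t => ?_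
    have h1 : lam (g⁻¹ * (t : ↥P.K) * g) = lam (t : ↥P.K) := by
      simp only [map_mul, map_inv]
      rw [mul_comm _ (lam (t : ↥P.K)), inv_mul_cancel_right]
    have h2 : (χ : G → ℂ) ((x : G) * ((g⁻¹ * (t : ↥P.K) * g : ↥P.K) : G)) =
        (χ : G → ℂ) ((x : G) * ((t : ↥P.K) : G)) := by
      rw [← hf ((x : G) * ((t : ↥P.K) : G)) ((g : G)⁻¹)]
      congr 1
      simp only [Subgroup.coe_mul, InvMemClass.coe_inv, inv_inv]
      rw [← mul_assoc, ← mul_assoc, (P.comm x x.2 _ (inv_mem g.2)).eq, mul_assoc (g : G)⁻¹]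
    show _ = ((η ⟨g⁻¹ * t * g, _⟩ : ℂ) - (lam (g⁻¹ * (t : ↥P.K) * g) : ℂ)) *
      conj ((χ : G → ℂ) ((x : G) * ((g⁻¹ * (t : ↥P.K) * g : ↥P.K) : G)))
    rw [h1, h2]
  simp only [hre, Finset.sum_const, Finset.card_univ, nsmul_eq_mul, ← Nat.card_eq_fintype_card]
  have hidx : (Nat.card ↥P.K : ℂ) = (Nat.card ↥(S.M η) : ℂ) * (S.M η).index := by
    exact_mod_cast (Subgroup.card_mul_index (S.M η)).symm
  have hM : (Nat.card ↥(S.M η) : ℂ) ≠ 0 := by simp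
  rw [hidx, ← mul_assoc, ← mul_assoc, inv_mul_cancel₀ hM, one_mul]
  simp only [Finset.mul_sum]
  refine Finset.sum_congr rfl fun t _ => ?_
  simp only [res0, MonoidHom.comp_apply, Subgroup.coe_subtype]
  ring

end Twists

end Cfsg.Agent.H40.WardE
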