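import Cfsg.Agent.H40.WardE.ExtPair
import Mathlib.GroupTheory.Complement
import Mathlib.GroupTheory.FiniteAbelian.Duality

/-!
`K = T₀ ⋊ Fo`: twists, stabilisers of characters of `T₀`, their extensions, and the absence of
coincidences between a character and its translates.
-/

set_option autoImplicit false
set_option linter.unusedSectionVars false
set_option linter.style.haveILetI false

namespace Cfsg.Agent.H40.WardE

open Subgroup Cfsg Cfsg.Agent Cfsg.Agent.CharBasic Cfsg.Agent.CharInduce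
open scoped ComplexConjugate

universe u w

variable {G : Type u} [Group G]

/-- the splitting `K = T₀ ⋊ Fo` with its twists -/
structure Twists (P : ExtPair G) (Λ : Type w) [Fintype Λ] where
  /-- the torus part -/
  T0 : Subgroup ↥P.K
  /-- the field part -/
  Fo : Subgroup ↥P.K
  normal : T0.Normal
  comm : ∀ a ∈ T0, ∀ b ∈ T0, a * b = b * a
  compl : T0.IsComplement' Fo
  comm_Fo : ∀ a ∈ Fo, ∀ b ∈ Fo, a * b = b * a
  /-- the twists -/
  tw : Λ → (↥P.K →* ℂˣ)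
  tw_fixed : ∀ l c, (tw l).comp (P.actK c) = tw l
  tw_T0 : ∀ l, ∀ t ∈ T0, tw l t = 1
  tw_orth : ∀ k : ↥P.K, k ∉ T0 → ∑ l, (tw l k : ℂ) = 0
  card_tw : Fintype.card Λ * Nat.card ↥T0 = Nat.card ↥P.K
  acts : ∀ c k, k⁻¹ * P.actK c k ∈ T0
  not_three : ¬ 3 ∣ Fintype.card Λ
  w_three : ∀ t ∈ T0, P.w ^ 3 * (t : G) * (P.w ^ 3)⁻¹ = t
  w_fpf : ∀ t ∈ T0, P.w * (t : G) * P.w⁻¹ = t → t = 1
  u_inv : ∀ t ∈ T0, P.u * (t : G) * P.u⁻¹ = (t : G)⁻¹
  cent : ∀ k : ↥P.K, (∀ g : ↥P.K, g * k * g⁻¹ ∉ Fo) → centralizer ({(k : G)} : Set G) ≤ P.T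

namespace Twists

variable {P : ExtPair G} {Λ : Type w} [Fintype Λ] (S : Twists P Λ)

include S in
theorem card_twist_pos [Finite G] : 0 < Fintype.card Λ := by
  rcases Nat.eq_zero_or_pos (Fintype.card Λ) with h | h
  · have := S.card_tw
    rw [h, zero_mul] at this
    exact absurd this.symm Nat.card_pos.ne'
  · exact h

theorem sum_tw [Finite G] (k : ↥P.K) :
    ∑ l, (S.tw l k : ℂ) = open Classical in if k ∈ S.T0 then (Fintype.card Λ : ℂ) else 0 := by
  classical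
  split_ifs with h
  · simp [S.tw_T0 _ k h]
  · exact S.tw_orth k h

theorem exists_eq (k : ↥P.K) : ∃ t ∈ S.T0, ∃ z ∈ S.Fo, k = t * z := by
  obtain ⟨⟨t, z⟩, h⟩ := S.compl.2 k
  exact ⟨t, t.2, z, z.2, h.symm⟩

theorem eq_of_mul_eq {t t' z z' : ↥P.K} (ht : t ∈ S.T0) (hz : z ∈ S.Fo) (ht' : t' ∈ S.T0)
    (hz' : z' ∈ S.Fo) (h : t * z = t' * z') : t = t' ∧ z = z' := by
  have h1 := S.compl.1 (a₁ := (⟨t, ht⟩, ⟨z, hz⟩)) (a₂ := (⟨t', ht'⟩, ⟨z', hz'⟩)) h
  exact ⟨congrArg (fun p => (p.1 : ↥P.K)) h1, congrArg (fun p => (p.2 : ↥P.K)) h1⟩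

theorem conj_mem {t : ↥P.K} (ht : t ∈ S.T0) (g : ↥P.K) : g * t * g⁻¹ ∈ S.T0 :=
  S.normal.conj_mem t ht g

theorem commutator_mem (g h : ↥P.K) : g * h * g⁻¹ * h⁻¹ ∈ S.T0 := by
  obtain ⟨a, ha, y, hy, rfl⟩ := S.exists_eq g
  obtain ⟨b, hb, z, hz, rfl⟩ := S.exists_eq h
  have hc := S.comm_Fo y hy z hz
  have e : a * y * (b * z) * (a * y)⁻¹ * (b * z)⁻¹ =
      a * (y * b * y⁻¹) * ((y * z * y⁻¹) * a⁻¹ * (y * z * y⁻¹)⁻¹) * (y * z * y⁻¹ * z⁻¹) * b⁻¹ := by
    group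
  rw [e, hc, mul_inv_cancel_right, mul_inv_cancel, mul_one]
  exact mul_mem (mul_mem (mul_mem ha (S.conj_mem hb y)) (S.conj_mem (inv_mem ha) z)) (inv_mem hb)

/-- the stabiliser of a character of `T₀` -/
def M (η : ↥S.T0 →* ℂˣ) : Subgroup ↥P.K where
  carrier := {g | ∀ t : ↥S.T0, η ⟨g * t * g⁻¹, S.conj_mem t.2 g⟩ = η t}
  one_mem' t := congrArg η (Subtype.ext (by simp))
  mul_mem' {a b} ha hb t := by
    rw [← hb t, ← ha ⟨b * t * b⁻¹, S.conj_mem t.2 b⟩]
    exact congrArg η (Subtype.ext (by simp only [mul_inv_rev, mul_assoc]))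
  inv_mem' {a} ha t := by
    rw [← ha ⟨a⁻¹ * t * a⁻¹⁻¹, S.conj_mem t.2 a⁻¹⟩]
    exact congrArg η (Subtype.ext (by group))

theorem mem_M {η : ↥S.T0 →* ℂˣ} {g : ↥P.K} :
    g ∈ S.M η ↔ ∀ t : ↥S.T0, η ⟨g * t * g⁻¹, S.conj_mem t.2 g⟩ = η t := Iff.rfl

theorem T0_le_M (η : ↥S.T0 →* ℂˣ) : S.T0 ≤ S.M η := fun g hg t =>
  congrArg η (Subtype.ext (by
    show g * t * g⁻¹ = t
    rw [S.comm g hg t t.2, mul_inv_cancel_right]))

theorem M_normal (η : ↥S.T0 →* ℂˣ) : (S.M η).Normal := by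
  refine ⟨fun n hn g => ?_⟩
  have e : g * n * g⁻¹ = (g * n * g⁻¹ * n⁻¹) * n := by group
  rw [e]
  exact mul_mem (S.T0_le_M η (S.commutator_mem g n)) hn

theorem actK_mem_M (η : ↥S.T0 →* ℂˣ) (c : Fin 3 × Fin 2) :
    ∀ m ∈ S.M η, P.actK c m ∈ S.M η := fun m hm => by
  have e : P.actK c m = m * (m⁻¹ * P.actK c m) := by group
  rw [e]
  exact mul_mem hm (S.T0_le_M η (S.acts c m))

/-- the extension trivial on the field part -/
noncomputable def ext (η : ↥S.T0 →* ℂˣ) : ↥(S.M η) →* ℂˣ where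
  toFun m := η ⟨(S.exists_eq (m : ↥P.K)).choose, (S.exists_eq (m : ↥P.K)).choose_spec.1⟩
  map_one' := by
    obtain ⟨ht, z, hz, he⟩ := (S.exists_eq ((1 : ↥(S.M η)) : ↥P.K)).choose_spec
    have h := (S.eq_of_mul_eq ht hz (one_mem _) (one_mem _)
      (he.symm.trans (by simp))).1
    rw [show (⟨_, ht⟩ : ↥S.T0) = 1 from Subtype.ext h, map_one]
  map_mul' a b := by
    obtain ⟨ha, y, hy, ea⟩ := (S.exists_eq (a : ↥P.K)).choose_spec
    obtain ⟨hb, z, hz, eb⟩ := (S.exists_eq (b : ↥P.K)).choose_spec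
    obtain ⟨hab, r, hr, eab⟩ := (S.exists_eq ((a * b : ↥(S.M η)) : ↥P.K)).choose_spec
    set t := (S.exists_eq (a : ↥P.K)).choose
    set t' := (S.exists_eq (b : ↥P.K)).choose
    set t'' := (S.exists_eq ((a * b : ↥(S.M η)) : ↥P.K)).choose
    have hyM : y ∈ S.M η := by
      have : y = t⁻¹ * (a : ↥P.K) := by rw [ea, inv_mul_cancel_left]
      rw [this]
      exact mul_mem (inv_mem (S.T0_le_M η ha)) a.2
    have h := (S.eq_of_mul_eq hab hr (mul_mem ha (S.conj_mem hb y)) (mul_mem hy hz) (by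
      rw [← eab, Subgroup.coe_mul, ea, eb]; group)).1
    show η ⟨t'', hab⟩ = η ⟨t, ha⟩ * η ⟨t', hb⟩
    rw [← hyM ⟨t', hb⟩, ← map_mul]
    exact congrArg η (Subtype.ext h)

theorem ext_apply (η : ↥S.T0 →* ℂˣ) {m : ↥(S.M η)} {t z : ↥P.K} (ht : t ∈ S.T0) (hz : z ∈ S.Fo)
    (h : (m : ↥P.K) = t * z) : S.ext η m = η ⟨t, ht⟩ := by
  obtain ⟨ht', z', hz', e⟩ := (S.exists_eq (m : ↥P.K)).choose_spec
  exact congrArg η (Subtype.ext (S.eq_of_mul_eq ht' hz' ht hz (e.symm.trans h)).1)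

theorem ext_T0 (η : ↥S.T0 →* ℂˣ) (t : ↥S.T0) :
    S.ext η ⟨t, S.T0_le_M η t.2⟩ = η t :=
  S.ext_apply η t.2 (one_mem _) (mul_one _).symm

/-- off the kernel of `η~ / lam` no conjugate lies in the field part -/
theorem notMem_of_ext_ne [Finite G] (η : ↥S.T0 →* ℂˣ) {lam : ↥P.K →* ℂˣ}
    (hlam : ∀ z ∈ S.Fo, lam z = 1) {m : ↥(S.M η)} (h : S.ext η m ≠ lam m) :
    ∀ g : ↥P.K, g * m * g⁻¹ ∉ S.Fo := by
  refine fun g hg => h ?_
  obtain ⟨a, ha, y, hy, hay⟩ := S.exists_eq g⁻¹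
  set z := g * (m : ↥P.K) * g⁻¹ with hz
  have hm : (m : ↥P.K) = a * (y * z * y⁻¹) * a⁻¹ := by
    have hge : g = (a * y)⁻¹ := by rw [← hay, inv_inv]
    rw [hz, hge]; group
  rw [S.comm_Fo y hy z hg, mul_inv_cancel_right] at hm
  have haM := S.T0_le_M η ha
  have hzM : z ∈ S.M η := by
    have : z = a⁻¹ * (m : ↥P.K) * a := by rw [hm]; group
    rw [this]
    exact mul_mem (mul_mem (inv_mem haM) m.2) haM
  have hme : m = ⟨a, haM⟩ * ⟨z, hzM⟩ * ⟨a, haM⟩⁻¹ := Subtype.ext hm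
  rw [hme, map_mul, map_mul, map_inv, mul_comm (S.ext η ⟨a, haM⟩), mul_inv_cancel_right,
    S.ext_apply η (one_mem _) hg (one_mul _).symm]
  rw [show lam ↑(⟨a, haM⟩ * ⟨z, hzM⟩ * ⟨a, haM⟩⁻¹ : ↥(S.M η)) = lam a * lam z * (lam a)⁻¹ by
    rw [← map_inv, ← map_mul, ← map_mul]; rfl]
  rw [hlam z hg, mul_one, mul_inv_cancel]
  exact map_one η

/-- off the kernel of `η~ / lam` the centraliser lies in `T` -/
theorem cent_of_ext_ne [Finite G] (η : ↥S.T0 →* ℂˣ) {lam : ↥P.K →* ℂˣ}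
    (hlam : ∀ z ∈ S.Fo, lam z = 1) {m : ↥(S.M η)} (h : S.ext η m ≠ lam m) :
    centralizer ({((m : ↥P.K) : G)} : Set G) ≤ P.T :=
  S.cent m (S.notMem_of_ext_ne η hlam h)

/-- `t ↦ g⁻¹ c(t) g` on `T₀` -/
def move (c : Fin 3 × Fin 2) (g : ↥P.K) : ↥S.T0 →* ↥S.T0 where
  toFun t := ⟨g⁻¹ * P.actK c t * g, by
    have h1 : P.actK c t ∈ S.T0 := by
      have e : P.actK c (t : ↥P.K) = (t : ↥P.K) * ((t : ↥P.K)⁻¹ * P.actK c t) := by group
      rw [e]
      exact mul_mem t.2 (S.acts c t)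
    simpa using S.conj_mem h1 g⁻¹⟩
  map_one' := Subtype.ext (by simp)
  map_mul' a b := Subtype.ext (by simp only [Subgroup.coe_mul, map_mul]; group)

theorem move_coe (c : Fin 3 × Fin 2) (g : ↥P.K) (t : ↥S.T0) :
    (S.move c g t : ↥P.K) = g⁻¹ * P.actK c t * g := rfl

theorem sign_cases [Finite G] {η : ↥S.T0 →* ℂˣ} (h : ∀ t, η t = (η t)⁻¹) : η = 1 := by
  refine MonoidHom.ext fun t => ?_
  have e2 : η t * η t = 1 := by nth_rewrite 1 [h t]; exact inv_mul_cancel _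
  obtain ⟨n, hn⟩ : Odd (Nat.card ↥S.T0) :=
    P.odd.of_dvd_nat (Subgroup.card_subgroup_dvd_card _)
  have hkm : η t ^ Nat.card ↥S.T0 = 1 := by rw [← map_pow, pow_card_eq_one', map_one]
  rwa [hn, pow_succ, pow_mul, pow_two, e2, one_pow, one_mul] at hkm

/-- a translate of a non-trivial character is not that character -/
theorem move_ne [Finite G] {η : ↥S.T0 →* ℂˣ} (hη : η ≠ 1) {c : Fin 3 × Fin 2} (hc : c ≠ 0)
    (g : ↥P.K) : η.comp (S.move c g) ≠ η := by
  intro h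
  obtain ⟨i, j⟩ := c
  -- conjugation by `w` and by `g`
  have hwT : ∀ t : ↥S.T0, P.actK (1, 0) t ∈ S.T0 := fun t => by
    have e : P.actK (1, 0) (t : ↥P.K) = (t : ↥P.K) * ((t : ↥P.K)⁻¹ * P.actK (1, 0) t) := by group
    rw [e]
    exact mul_mem t.2 (S.acts _ t)
  let Ω : ↥S.T0 → ↥S.T0 := fun t => ⟨P.actK (1, 0) t, hwT t⟩
  let C : ↥S.T0 → ↥S.T0 := fun t =>
    ⟨g⁻¹ * t * g, by simpa using S.conj_mem t.2 g⁻¹⟩
  have hΩ3 : ∀ t, Ω (Ω (Ω t)) = t := fun t => by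
    apply Subtype.ext
    apply Subtype.ext
    simp only [Ω, ExtPair.actK_coe, ExtPair.rep, Fin.val_one, pow_one, Fin.val_zero, pow_zero,
      mul_one]
    calc P.w * (P.w * (P.w * ((t : ↥P.K) : G) * P.w⁻¹) * P.w⁻¹) * P.w⁻¹
        = P.w ^ 3 * ((t : ↥P.K) : G) * (P.w ^ 3)⁻¹ := by
          simp only [pow_succ, pow_zero, one_mul, mul_inv_rev, mul_assoc]
      _ = _ := S.w_three t t.2
  have hCΩ : ∀ t, C (Ω t) = Ω (C t) := fun t => by
    apply Subtype.ext
    show g⁻¹ * P.actK (1, 0) t * g = P.actK (1, 0) (g⁻¹ * t * g)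
    obtain ⟨r, hr, hrg⟩ : ∃ r ∈ S.T0, P.actK (1, 0) g = g * r :=
      ⟨g⁻¹ * P.actK (1, 0) g, S.acts _ g, by group⟩
    rw [map_mul, map_mul, map_inv, hrg]
    have hx : g⁻¹ * P.actK (1, 0) t * g ∈ S.T0 := by simpa using S.conj_mem (hwT t) g⁻¹
    calc g⁻¹ * P.actK (1, 0) t * g = r⁻¹ * (r * (g⁻¹ * P.actK (1, 0) t * g)) := by group
      _ = r⁻¹ * ((g⁻¹ * P.actK (1, 0) t * g) * r) := by rw [S.comm r hr _ hx]
      _ = (g * r)⁻¹ * P.actK (1, 0) t * (g * r) := by group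
  have hCn : ∀ (n : ℕ) (t : ↥S.T0), ((C^[n] t : ↥S.T0) : ↥P.K) = (g ^ n)⁻¹ * t * g ^ n := by
    intro n
    induction n with
    | zero => intro t; simp
    | succ n ih =>
      intro t
      rw [Function.iterate_succ_apply', pow_succ]
      show g⁻¹ * ((C^[n] t : ↥S.T0) : ↥P.K) * g = _
      rw [ih]; group
  have hgT : g ^ Fintype.card Λ ∈ S.T0 := by
    haveI := S.normal
    have hidx : S.T0.index = Fintype.card Λ := by
      have h1 := Subgroup.card_mul_index S.T0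
      rw [← S.card_tw, mul_comm (Fintype.card Λ)] at h1
      exact Nat.eq_of_mul_eq_mul_left Nat.card_pos h1
    rw [← hidx]
    exact Subgroup.pow_index_mem S.T0 g
  have hCN : ∀ t, C^[Fintype.card Λ] t = t := fun t => Subtype.ext (by
    rw [hCn, S.comm _ (inv_mem hgT) _ t.2, inv_mul_cancel_right])
  -- `η` composed with `C ∘ Ω^i` is `η` or its inverse
  have hΩi : ∀ s : ↥S.T0, ((Ω^[(i : ℕ)] s : ↥S.T0) : ↥P.K) = P.actK (i, 0) s := by
    intro s
    fin_cases i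
    · exact Subtype.ext (by simp [ExtPair.rep])
    · rfl
    · apply Subtype.ext
      simp only [Fin.reduceFinMk, Fin.val_two, Function.iterate_succ, Function.iterate_zero,
        Function.comp_apply, id_eq, Ω, ExtPair.actK_coe, ExtPair.rep, Fin.val_one, pow_one,
        Fin.val_zero, pow_zero, mul_one, pow_two, mul_inv_rev, mul_assoc]
  have hmove : (j = 0 → ∀ t, η (C (Ω^[(i : ℕ)] t)) = η t) ∧
      (j = 1 → ∀ t, η (C (Ω^[(i : ℕ)] t)) = (η t)⁻¹) := by
    refine ⟨fun hj t => ?_, fun hj t => ?_⟩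
    · subst hj
      refine Eq.trans (congrArg η (Subtype.ext ?_)) (DFunLike.congr_fun h t)
      show g⁻¹ * ((Ω^[(i : ℕ)] t : ↥S.T0) : ↥P.K) * g = g⁻¹ * P.actK (i, 0) t * g
      rw [hΩi]
    · subst hj
      have hu : P.actK (i, 1) (t : ↥P.K) = (P.actK (i, 0) (t : ↥P.K))⁻¹ := by
        rw [← map_inv]
        apply Subtype.ext
        simp only [ExtPair.actK_coe, ExtPair.rep, Fin.val_one, pow_one, Fin.val_zero, pow_zero,
          mul_one, InvMemClass.coe_inv, mul_inv_rev]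
        rw [← S.u_inv t t.2]
        group
      have e : S.move (i, 1) g t = (C (Ω^[(i : ℕ)] t))⁻¹ := by
        apply Subtype.ext
        show g⁻¹ * P.actK (i, 1) t * g = (g⁻¹ * ((Ω^[(i : ℕ)] t : ↥S.T0) : ↥P.K) * g)⁻¹
        rw [hΩi, hu]; group
      have ht := DFunLike.congr_fun h t
      rw [MonoidHom.comp_apply, e, map_inv] at ht
      rw [← ht, inv_inv]
  have hcomm : ∀ (n : ℕ) s, Ω^[n] (C s) = C (Ω^[n] s) := by
    intro n
    induction n with
    | zero => intro s; rfl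
    | succ n ih => intro s; rw [Function.iterate_succ_apply', Function.iterate_succ_apply', ih, hCΩ]
  by_cases hi : i = 0
  · -- only the inversion
    subst hi
    have hj : j = 1 := by
      fin_cases j
      · exact absurd rfl hc
      · rfl
    have h1 : ∀ t, η (C t) = (η t)⁻¹ := hmove.2 hj
    have hodd : ∀ (n : ℕ) t, η (C^[2 * n + 1] t) = (η t)⁻¹ := by
      intro n
      induction n with
      | zero => exact h1
      | succ n ih =>
        intro t
        rw [show 2 * (n + 1) + 1 = 2 + (2 * n + 1) by ring, Function.iterate_add_apply]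
        show η (C (C _)) = _
        rw [h1, h1, inv_inv, ih]
    obtain ⟨n, hn⟩ : Odd (Fintype.card Λ) :=
      P.odd.of_dvd_nat ⟨Nat.card ↥S.T0, S.card_tw.symm⟩
    refine hη (S.sign_cases fun t => ?_)
    have := hodd n t
    rwa [← hn, hCN] at this
  · -- a power of `Ω` fixes `η`
    have hsq : ∀ t, η (C (C (Ω^[2 * (i : ℕ)] t))) = η t := by
      intro t
      have e : C (C (Ω^[2 * (i : ℕ)] t)) = C (Ω^[(i : ℕ)] (C (Ω^[(i : ℕ)] t))) := by
        rw [hcomm, ← Function.iterate_add_apply, two_mul]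
      rw [e]
      rcases (show j = 0 ∨ j = 1 by omega) with hj | hj
      · rw [hmove.1 hj, hmove.1 hj]
      · rw [hmove.2 hj, hmove.2 hj, inv_inv]
    have hiter : ∀ (n : ℕ) t, η (C^[2 * n] (Ω^[2 * (i : ℕ) * n] t)) = η t := by
      intro n
      induction n with
      | zero => intro t; rfl
      | succ n ih =>
        intro t
        have hC : ∀ (m k : ℕ) s, Ω^[k] (C^[m] s) = C^[m] (Ω^[k] s) := by
          intro m k
          induction m with
          | zero => intro s; rfl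
          | succ m ihm => intro s; rw [Function.iterate_succ_apply, ihm, hcomm, ← Function.iterate_succ_apply]
        have e : C^[2 * (n + 1)] (Ω^[2 * (i : ℕ) * (n + 1)] t) =
            C (C (Ω^[2 * (i : ℕ)] (C^[2 * n] (Ω^[2 * (i : ℕ) * n] t)))) := by
          rw [hC, ← Function.iterate_add_apply Ω, show 2 * (i : ℕ) + 2 * (i : ℕ) * n =
            2 * (i : ℕ) * (n + 1) by ring, show 2 * (n + 1) = (2 * n + 1) + 1 by ring,
            Function.iterate_succ_apply', Function.iterate_succ_apply']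
        rw [e, hsq, ih]
    have hmod : ∀ (n : ℕ) t, Ω^[n] t = Ω^[n % 3] t := by
      intro n t
      conv_lhs => rw [← Nat.mod_add_div n 3]
      rw [Function.iterate_add_apply]
      congr 1
      induction n / 3 with
      | zero => rfl
      | succ m ihm =>
        rw [show 3 * (m + 1) = 3 + 3 * m by ring, Function.iterate_add_apply, ihm]
        exact hΩ3 t
    have hfix : ∀ t, η (Ω t) = η t := by
      intro t
      have h2 := hiter (Fintype.card Λ)
      have hC2 : ∀ s, C^[2 * Fintype.card Λ] s = s := fun s => by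
        rw [two_mul, Function.iterate_add_apply, hCN, hCN]
      simp only [hC2, hmod (2 * (i : ℕ) * Fintype.card Λ)] at h2
      have hn := S.not_three
      have hiv : (i : ℕ) = 1 ∨ (i : ℕ) = 2 := by
        have := i.2
        have : (i : ℕ) ≠ 0 := fun e => hi (Fin.ext e)
        omega
      have h12 : (2 * (i : ℕ) * Fintype.card Λ) % 3 = 1 ∨
          (2 * (i : ℕ) * Fintype.card Λ) % 3 = 2 := by
        rcases hiv with e | e <;> rw [e] <;> omega
      rcases h12 with e | e <;> simp only [e] at h2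
      · exact h2 t
      · have := h2 (Ω t)
        rw [show Ω^[2] (Ω t) = Ω (Ω (Ω t)) from rfl, hΩ3] at this
        exact this.symm
    let δ : ↥S.T0 → ↥S.T0 := fun t => t⁻¹ * Ω t
    have hinj : Function.Injective δ := by
      intro a b hab
      have e1 : a⁻¹ * Ω a = b⁻¹ * Ω b := hab
      have hcT : ∀ x y : ↥S.T0, x * y = y * x := fun x y => Subtype.ext (S.comm x x.2 y y.2)
      have hΩmul : Ω (a * b⁻¹) = Ω a * (Ω b)⁻¹ := Subtype.ext (by
        show P.actK (1, 0) ((a : ↥P.K) * (b : ↥P.K)⁻¹) = _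
        rw [map_mul, map_inv]; rfl)
      have h3 : Ω (a * b⁻¹) = a * b⁻¹ := by
        rw [hΩmul, show Ω a = a * (b⁻¹ * Ω b) by rw [← e1, mul_inv_cancel_left]]
        group
      have h4 := S.w_fpf _ (a * b⁻¹).2 (by
        have := congrArg (fun z : ↥S.T0 => ((z : ↥P.K) : G)) h3
        simpa [Ω, ExtPair.rep, mul_assoc] using this)
      exact mul_inv_eq_one.1 (Subtype.ext h4)
    refine hη (MonoidHom.ext fun t => ?_)
    obtain ⟨t', rfl⟩ := Finite.surjective_of_injective hinj t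
    show η (t'⁻¹ * Ω t') = 1
    rw [map_mul, map_inv, hfix, inv_mul_cancel]

end Twists

end Cfsg.Agent.H40.WardE
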